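import Mathlib
import Cfsg.Agent.Lib.Transfer.OneClassSize

/-!
Groups whose noncentral `p`-regular elements have a single class size `n`: centralizers, the abelian
`p'`-parts and the action of the normalizer of a centralizer.
-/

set_option autoImplicit false
set_option maxHeartbeats 1000000

open scoped Pointwise

universe u

namespace Cfsg.Agent.Transfer.TwoRegular

open Cfsg Cfsg.Agent Cfsg.Agent.Transfer.ClassDisconnected Subgroup

variable {G : Type u} [Group G]

/-- The centralizer of an element. -/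
abbrev cen (x : G) : Subgroup G := Subgroup.centralizer ({x} : Set G)

theorem mem_cen {g x : G} : g ∈ cen x ↔ g * x = x * g := Subgroup.mem_centralizer_singleton_iff

theorem self_mem_cen (x : G) : x ∈ cen x := mem_cen.2 rfl

theorem cen_mem_comm {g x : G} (h : g ∈ cen x) : x ∈ cen g := mem_cen.2 (mem_cen.1 h).symm

theorem cen_eq_top {x : G} (hx : x ∈ Subgroup.center G) : cen x = ⊤ :=
  eq_top_iff.2 fun g _ => mem_cen.2 (Subgroup.mem_center_iff.1 hx g)

theorem mem_center_of_top {x : G} (hx : cen x = ⊤) : x ∈ Subgroup.center G :=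
  Subgroup.mem_center_iff.2 fun g => mem_cen.1 (hx ▸ Subgroup.mem_top g)

theorem cen_conj_iff (g x h : G) : g * h * g⁻¹ ∈ cen (g * x * g⁻¹) ↔ h ∈ cen x := by
  rw [mem_cen, mem_cen]
  constructor
  · intro e
    calc h * x = g⁻¹ * ((g * h * g⁻¹) * (g * x * g⁻¹)) * g := by group
      _ = g⁻¹ * ((g * x * g⁻¹) * (g * h * g⁻¹)) * g := by rw [e]
      _ = x * h := by group
  · intro e
    calc (g * h * g⁻¹) * (g * x * g⁻¹) = g * (h * x) * g⁻¹ := by group
      _ = g * (x * h) * g⁻¹ := by rw [e]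
      _ = (g * x * g⁻¹) * (g * h * g⁻¹) := by group

theorem conj_center_iff (g x : G) : g * x * g⁻¹ ∈ Subgroup.center G ↔ x ∈ Subgroup.center G := by
  constructor
  · intro h
    have h1 := Subgroup.Normal.conj_mem inferInstance _ h g⁻¹
    simpa [mul_assoc] using h1
  · exact fun h => Subgroup.Normal.conj_mem inferInstance _ h g

theorem orderOf_conj (g x : G) : orderOf (g * x * g⁻¹) = orderOf x :=
  orderOf_injective (MulAut.conj g).toMonoidHom (MulAut.conj g).injective x

/-- The commutator with a fixed central value is multiplicative in powers. -/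
theorem conj_pow_eq {g u c : G} (hc : c ∈ Subgroup.center G) (h : g * u * g⁻¹ = c * u) (k : ℕ) :
    g ^ k * u * (g ^ k)⁻¹ = c ^ k * u := by
  induction k with
  | zero => simp
  | succ k ih =>
    have e : g * c ^ k = c ^ k * g := Subgroup.mem_center_iff.1 (Subgroup.pow_mem _ hc k) g
    calc g ^ (k + 1) * u * (g ^ (k + 1))⁻¹ = g * (g ^ k * u * (g ^ k)⁻¹) * g⁻¹ := by
          rw [pow_succ']; group
      _ = g * (c ^ k * u) * g⁻¹ := by rw [ih]
      _ = c ^ k * (g * u * g⁻¹) := by rw [← mul_assoc g, e]; group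
      _ = c ^ (k + 1) * u := by rw [h, pow_succ, mul_assoc]

/-- Central commutators have order dividing that of the element. -/
theorem pow_orderOf_comm {g u c : G} (hc : c ∈ Subgroup.center G) (h : g * u * g⁻¹ = c * u) :
    c ^ orderOf u = 1 := by
  have hcu : Commute c u := (Subgroup.mem_center_iff.1 hc u).symm
  have := congrArg (fun z => z ^ orderOf u) h
  simp only [conj_pow, pow_orderOf_eq_one, mul_one, mul_inv_cancel] at this
  rw [hcu.mul_pow, pow_orderOf_eq_one, mul_one] at this
  exact this.symm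

/-- The single class size hypothesis. -/
structure Hyp (G : Type u) [Group G] (p n : ℕ) : Prop where
  prime : p.Prime
  one_lt : 1 < n
  size : ∀ x : G, (orderOf x).Coprime p → cix x = 1 ∨ cix x = n

/-- There is a noncentral element of `s`-power order, `s` a prime other than `p`. -/
def Sig (G : Type u) [Group G] (p s : ℕ) : Prop :=
  s.Prime ∧ s ≠ p ∧ ∃ u : G, u ∉ Subgroup.center G ∧ ∃ k : ℕ, orderOf u = s ^ k

namespace Hyp

variable [Finite G] {p n : ℕ} (H : Hyp G p n)

include H in
theorem preg_primary {x : G} {q k : ℕ} (hq : q.Prime) (hqp : q ≠ p) (hx : orderOf x = q ^ k) :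
    (orderOf x).Coprime p := by
  rw [hx]; exact Nat.Coprime.pow_left _ ((Nat.coprime_primes hq H.prime).2 hqp)

include H in
theorem index_eq {x : G} (hp : (orderOf x).Coprime p) (hx : x ∉ Subgroup.center G) :
    (cen x).index = n :=
  (H.size x hp).resolve_left fun h1 => hx (cix_eq_one.1 h1)

include H in
theorem card_cen {x : G} (hp : (orderOf x).Coprime p) (hx : x ∉ Subgroup.center G) :
    Nat.card (cen x) * n = Nat.card G := by
  rw [← H.index_eq hp hx, Subgroup.card_mul_index]

include H in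
theorem cen_eq_of_le {x w : G} (hxp : (orderOf x).Coprime p) (hwp : (orderOf w).Coprime p)
    (hx : x ∉ Subgroup.center G) (hw : w ∉ Subgroup.center G) (hle : cen x ≤ cen w) : cen x = cen w := by
  refine le_antisymm hle (Subgroup.relIndex_eq_one.1 ?_)
  have h1 := Subgroup.relIndex_mul_index hle
  rw [H.index_eq hwp hw, H.index_eq hxp hx] at h1
  exact Nat.eq_of_mul_eq_mul_right (by have := H.one_lt; omega : 0 < n) (by rw [h1, one_mul])

theorem cen_mul_le {u v : G} (huv : Commute u v) (hco : (orderOf u).Coprime (orderOf v)) :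
    cen (u * v) ≤ cen u := by
  obtain ⟨m, hm⟩ := Nat.chineseRemainder hco 1 0
  have hp : (u * v) ^ m = u := by
    rw [huv.mul_pow, (pow_eq_pow_iff_modEq.2 hm.1 : u ^ m = u ^ 1),
      (pow_eq_pow_iff_modEq.2 hm.2 : v ^ m = v ^ 0), pow_one, pow_zero, mul_one]
  have := centralizer_le_pow (u * v) m
  rwa [hp] at this

include H in
theorem eq_of_primary {x w : G} {q r i j : ℕ} (hq : q.Prime) (hr : r.Prime) (hqr : q ≠ r)
    (hqp : q ≠ p) (hrp : r ≠ p) (hx : x ∉ Subgroup.center G) (hw : w ∉ Subgroup.center G)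
    (hxo : orderOf x = q ^ i) (hwo : orderOf w = r ^ j) (hwx : w ∈ cen x) : cen x = cen w := by
  have hcom : Commute x w := (mem_cen.1 hwx).symm
  have hco : (orderOf x).Coprime (orderOf w) := by
    rw [hxo, hwo]; exact Nat.Coprime.pow _ _ ((Nat.coprime_primes hq hr).2 hqr)
  have h1 := cen_mul_le hcom hco
  have h2 : cen (x * w) ≤ cen w := by rw [hcom.eq]; exact cen_mul_le hcom.symm hco.symm
  have hxw : x * w ∉ Subgroup.center G := fun hz =>
    hx (mem_center_of_top (top_le_iff.1 (cen_eq_top hz ▸ h1)))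
  have hp : (orderOf (x * w)).Coprime p := by
    rw [hcom.orderOf_mul_eq_mul_orderOf_of_coprime hco]
    exact (H.preg_primary hq hqp hxo).mul_left (H.preg_primary hr hrp hwo)
  exact (H.cen_eq_of_le hp (H.preg_primary hq hqp hxo) hxw hx h1).symm.trans
    (H.cen_eq_of_le hp (H.preg_primary hr hrp hwo) hxw hw h2)

include H in
theorem exists_mem {w : G} (hwp : (orderOf w).Coprime p) (hw : w ∉ Subgroup.center G) {s : ℕ}
    (hs : Sig G p s) : ∃ v ∈ cen w, v ∉ Subgroup.center G ∧ ∃ k : ℕ, orderOf v = s ^ k := by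
  obtain ⟨hsp, hne, v₀, hv₀, k₀, hk₀⟩ := hs
  haveI : Fact s.Prime := ⟨hsp⟩
  by_contra hno
  push Not at hno
  have h1 := OneClassSize.fac_le (G := G) (H := cen w) (r := s) fun y hy j hj => by
    by_contra hyc; exact hno y hy hyc j hj
  have h2 := OneClassSize.fac_lt (G := G) (H := cen v₀) (Subgroup.center_le_centralizer _)
    (self_mem_cen v₀) hk₀ hv₀
  have e : Nat.card (cen w) = Nat.card (cen v₀) :=
    Nat.eq_of_mul_eq_mul_right (by have := H.one_lt; omega : 0 < n)
      ((H.card_cen hwp hw).trans (H.card_cen (H.preg_primary hsp hne hk₀) hv₀).symm)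
  rw [e] at h1
  omega

variable (hM : ∀ q : ℕ, ∃ s, s ≠ q ∧ Sig G p s)

include H hM in
theorem central_in {x u g : G} (hxp : (orderOf x).Coprime p) (hx : x ∉ Subgroup.center G)
    (hup : (orderOf u).Coprime p) (hu : u ∈ cen x) (hg : g ∈ cen x) : g * u = u * g := by
  obtain ⟨i, q, k, hq, hxo, hxc⟩ := exists_primary_noncentral hx
  have hqp : q ≠ p := by
    intro e
    have hd : orderOf (x ^ i) ∣ orderOf x := orderOf_pow_dvd i
    rw [hxo] at hd
    have hk : k ≠ 0 := fun h0 => hxc (by
      rw [h0, pow_zero, orderOf_eq_one_iff] at hxo; rw [hxo]; exact one_mem _)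
    exact H.prime.one_lt.ne' (Nat.eq_one_of_dvd_coprimes hxp (by rw [← e]; exact (dvd_pow_self q hk).trans hd) dvd_rfl)
  set w := x ^ i with hwdef
  have hwp : (orderOf w).Coprime p := H.preg_primary hq hqp hxo
  have hC : cen x = cen w := H.cen_eq_of_le hxp hwp hx hxc (centralizer_le_pow x i)
  obtain ⟨s, hsq, hs⟩ := hM q
  obtain ⟨v, hv, hvc, kv, hvo⟩ := H.exists_mem hwp hxc hs
  have hCv : cen w = cen v := H.eq_of_primary hq hs.1 (Ne.symm hsq) hqp hs.2.1 hxc hvc hxo hvo hv
  suffices h : u ∈ Subgroup.centralizer ((cen x : Subgroup G) : Set G) from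
    Subgroup.mem_centralizer_iff.1 h g hg
  refine mem_of_primary _ fun j r l hr ho => ?_
  rw [Subgroup.mem_centralizer_iff]
  intro c hc
  by_cases hz : u ^ j ∈ Subgroup.center G
  · exact Subgroup.mem_center_iff.1 hz c
  have hrp : r ≠ p := by
    intro e
    have hd : orderOf (u ^ j) ∣ orderOf u := orderOf_pow_dvd j
    rw [ho] at hd
    have hl : l ≠ 0 := fun h0 => hz (by
      rw [h0, pow_zero, orderOf_eq_one_iff] at ho; rw [ho]; exact one_mem _)
    exact H.prime.one_lt.ne' (Nat.eq_one_of_dvd_coprimes hup (by rw [← e]; exact (dvd_pow_self r hl).trans hd) dvd_rfl)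
  have huw : u ^ j ∈ cen w := hC ▸ Subgroup.pow_mem _ hu j
  have heq : cen w = cen (u ^ j) := by
    rcases eq_or_ne r q with e | e
    · rw [hCv]
      exact H.eq_of_primary hs.1 hr (by rw [e]; exact hsq) hs.2.1 hrp hvc hz hvo ho (hCv ▸ huw)
    · exact H.eq_of_primary hq hr (Ne.symm e) hqp hrp hxc hz hxo ho huw
  exact mem_cen.1 (heq ▸ hC ▸ hc)

include H hM in
theorem cen_eq_of_mem {x u : G} (hxp : (orderOf x).Coprime p) (hx : x ∉ Subgroup.center G)
    (hup : (orderOf u).Coprime p) (huc : u ∉ Subgroup.center G) (hu : u ∈ cen x) : cen u = cen x :=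
  (H.cen_eq_of_le hxp hup hx huc fun _ hg => mem_cen.2 (H.central_in hM hxp hx hup hu hg)).symm

include H hM in
/-- An element acting trivially modulo the center with power in the centralizer, of coprime order, lies
in the centralizer. -/
theorem free {x u g : G} (hxp : (orderOf x).Coprime p) (hx : x ∉ Subgroup.center G)
    (hup : (orderOf u).Coprime p) (huc : u ∉ Subgroup.center G) (hu : u ∈ cen x)
    (hg : g * u * g⁻¹ * u⁻¹ ∈ Subgroup.center G) {k : ℕ} (hk : g ^ k ∈ cen x)
    (hco : k.Coprime (orderOf u)) : g ∈ cen x := by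
  set c := g * u * g⁻¹ * u⁻¹ with hc
  have h : g * u * g⁻¹ = c * u := by rw [hc, inv_mul_cancel_right]
  have hE := H.cen_eq_of_mem hM hxp hx hup huc hu
  have h1 : c ^ k = 1 := by
    have e := conj_pow_eq hg h k
    have hku : g ^ k * u = u * g ^ k := mem_cen.1 (hE ▸ hk)
    rw [hku, mul_inv_cancel_right] at e
    exact mul_eq_right.1 e.symm
  have h2 := pow_orderOf_comm hg h
  have h3 : c = 1 := orderOf_eq_one_iff.1
    (Nat.eq_one_of_dvd_coprimes hco (orderOf_dvd_of_pow_eq_one h1) (orderOf_dvd_of_pow_eq_one h2))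
  rw [← hE, mem_cen]
  rw [h3, one_mul] at h
  exact mul_inv_eq_iff_eq_mul.1 h

include H hM in
theorem mem_normalizer {v u h : G} (hvp : (orderOf v).Coprime p) (hv : v ∉ Subgroup.center G)
    (hup : (orderOf u).Coprime p) (huc : u ∉ Subgroup.center G) (hu : u ∈ cen v)
    (hh : h * u * h⁻¹ ∈ cen v) : h ∈ Subgroup.normalizer (cen v : Set G) := by
  have e1 := H.cen_eq_of_mem hM hvp hv hup huc hu
  have e2 := H.cen_eq_of_mem hM hvp hv (by rwa [orderOf_conj]) (fun hz => huc ((conj_center_iff h u).1 hz)) hh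
  rw [Subgroup.mem_normalizer_iff]
  intro a
  constructor
  · intro ha
    rw [← e2]; exact (cen_conj_iff h u a).2 (e1 ▸ ha)
  · intro ha
    rw [← e1]; exact (cen_conj_iff h u a).1 (e2 ▸ ha)

/-- The `p'`-elements of a centralizer. -/
def part (H : Hyp G p n) (hM : ∀ q : ℕ, ∃ s, s ≠ q ∧ Sig G p s) {x : G} (hxp : (orderOf x).Coprime p)
    (hx : x ∉ Subgroup.center G) : Subgroup G where
  carrier := {a | a ∈ cen x ∧ (orderOf a).Coprime p}
  one_mem' := ⟨one_mem _, by rw [orderOf_one]; exact Nat.coprime_one_left p⟩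
  mul_mem' := fun {a b} ha hb => ⟨mul_mem ha.1 hb.1,
    Nat.Coprime.coprime_dvd_left (Commute.orderOf_mul_dvd_mul_orderOf (H.central_in hM hxp hx hb.2 hb.1 ha.1))
      (ha.2.mul_left hb.2)⟩
  inv_mem' := fun {a} ha => ⟨inv_mem ha.1, by rw [orderOf_inv]; exact ha.2⟩

theorem mem_part {x a : G} (hxp : (orderOf x).Coprime p) (hx : x ∉ Subgroup.center G) :
    a ∈ H.part hM hxp hx ↔ a ∈ cen x ∧ (orderOf a).Coprime p := Iff.rfl

include H hM in
/-- A group acting coprimely that is normalised by `g` cannot move an element whose commutator with `g`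
is central, unless `g` centralizes it. -/
theorem avg {v g : G} {s k : ℕ} (hs : s.Prime) (hsp : s ≠ p) (hvo : orderOf v = s ^ k)
    (hv : v ∉ Subgroup.center G) (hg : g * v * g⁻¹ * v⁻¹ ∈ Subgroup.center G) {R : Subgroup G}
    (hCR : cen v ≤ R) (hRX : R ≤ Subgroup.normalizer (cen v : Set G)) (hgR : ∀ r ∈ R, g * r * g⁻¹ ∈ R)
    (hR : ∃ r ∈ R, r ∉ cen v) (hco : ((cen v).relIndex R).Coprime s) : g ∈ cen v := by
  classical
  haveI := Fintype.ofFinite G
  have hvp := H.preg_primary hs hsp hvo
  set A := H.part hM hvp hv with hA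
  letI : CommGroup A := { (inferInstance : Group A) with
    mul_comm := fun a b => Subtype.ext (H.central_in hM hvp hv b.2.2 b.2.1 a.2.1) }
  set O : Finset A := Finset.univ.filter fun a : A => ∃ r ∈ R, r * v * r⁻¹ = (a : G) with hO
  have hmemA : ∀ r ∈ R, r * v * r⁻¹ ∈ A := fun r hr =>
    ⟨(Subgroup.mem_normalizer_iff.1 (hRX hr) v).1 (self_mem_cen v), by rw [orderOf_conj]; exact hvp⟩
  -- cardinality
  have hcard : O.card = (cen v).relIndex R := by
    let f : R ⧸ (cen v).subgroupOf R → O := Quotient.lift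
      (fun r => ⟨⟨(r : G) * v * (r : G)⁻¹, hmemA r r.2⟩, Finset.mem_filter.2 ⟨Finset.mem_univ _, r, r.2, rfl⟩⟩)
      (fun a b hab => by
        have h0 : a⁻¹ * b ∈ (cen v).subgroupOf R := QuotientGroup.leftRel_apply.1 hab
        have h1 : (a : G)⁻¹ * (b : G) ∈ cen v := h0
        refine Subtype.ext (Subtype.ext ?_)
        show (a : G) * v * (a : G)⁻¹ = (b : G) * v * (b : G)⁻¹
        calc (a : G) * v * (a : G)⁻¹ = a * (v * ((a : G)⁻¹ * b)) * (b : G)⁻¹ := by group
          _ = a * (((a : G)⁻¹ * b) * v) * (b : G)⁻¹ := by rw [mem_cen.1 h1]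
          _ = _ := by group)
    have hf : Function.Bijective f := by
      constructor
      · intro x y
        induction x using Quotient.inductionOn' with | h a => ?_
        induction y using Quotient.inductionOn' with | h b => ?_
        intro e
        have e' : (a : G) * v * (a : G)⁻¹ = (b : G) * v * (b : G)⁻¹ := congrArg (fun z : O => ((z : A) : G)) e
        refine Quotient.sound' (QuotientGroup.leftRel_apply.2 ?_)
        show (a : G)⁻¹ * (b : G) ∈ cen v
        rw [mem_cen]
        calc (a : G)⁻¹ * b * v = (a : G)⁻¹ * ((b : G) * v * (b : G)⁻¹) * b := by group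
          _ = (a : G)⁻¹ * ((a : G) * v * (a : G)⁻¹) * b := by rw [e']
          _ = _ := by group
      · rintro ⟨a, ha⟩
        obtain ⟨r, hr, e⟩ := (Finset.mem_filter.1 ha).2
        exact ⟨Quotient.mk'' ⟨r, hr⟩, Subtype.ext (Subtype.ext e)⟩
    rw [show (cen v).relIndex R = Nat.card (R ⧸ (cen v).subgroupOf R) from Subgroup.index_eq_card _,
      Nat.card_eq_of_bijective f hf, Nat.card_eq_fintype_card, Fintype.card_coe]
  set N : A := ∏ a ∈ O, a with hN
  -- conjugation
  have hconj : ∀ r ∈ Subgroup.normalizer (cen v : Set G), ∀ a : A, r * (a : G) * r⁻¹ ∈ A := fun r hr a =>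
    ⟨(Subgroup.mem_normalizer_iff.1 hr a).1 a.2.1, by rw [orderOf_conj]; exact a.2.2⟩
  let σ : ∀ r, r ∈ Subgroup.normalizer (cen v : Set G) → (A →* A) := fun r hr =>
    { toFun := fun a => ⟨r * (a : G) * r⁻¹, hconj r hr a⟩
      map_one' := Subtype.ext (by simp)
      map_mul' := fun a b => Subtype.ext (by simp [mul_assoc]) }
  have hσinj : ∀ r hr, Function.Injective (σ r hr) := fun r hr a b e =>
    Subtype.ext (mul_left_cancel (mul_right_cancel (congrArg Subtype.val e : r * (a : G) * r⁻¹ = r * b * r⁻¹)))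
  have hfix : ∀ r (hr : r ∈ R), σ r (hRX hr) N = N := by
    intro r hr
    rw [hN, map_prod]
    refine (Finset.prod_image (f := fun b : A => b) (g := σ r (hRX hr)) (fun a _ b _ e => hσinj r (hRX hr) e)).symm.trans ?_
    refine Finset.prod_congr (Finset.eq_of_subset_of_card_le ?_ ?_) fun _ _ => rfl
    · intro b hb
      obtain ⟨a, ha, rfl⟩ := Finset.mem_image.1 hb
      obtain ⟨t, ht, e⟩ := (Finset.mem_filter.1 ha).2
      refine Finset.mem_filter.2 ⟨Finset.mem_univ _, r * t, R.mul_mem hr ht, ?_⟩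
      show r * t * v * (r * t)⁻¹ = r * (a : G) * r⁻¹
      rw [← e]; group
    · rw [Finset.card_image_of_injective _ (hσinj r (hRX hr))]
  have hNs : (N : G) ^ (s ^ k) = 1 := by
    have : N ^ (s ^ k) = 1 := by
      rw [hN, ← Finset.prod_pow]
      refine Finset.prod_eq_one fun a ha => Subtype.ext ?_
      obtain ⟨t, -, e⟩ := (Finset.mem_filter.1 ha).2
      show (a : G) ^ (s ^ k) = 1
      rw [← e, conj_pow, ← hvo, pow_orderOf_eq_one]; simp
    exact congrArg Subtype.val this
  have hNc : (N : G) ∈ Subgroup.center G := by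
    by_contra hNc
    obtain ⟨r, hr, hrc⟩ := hR
    refine hrc (H.free hM hvp hv N.2.2 hNc N.2.1 ?_ (k := (cen v).relIndex R) ?_ ?_)
    · rw [show r * (N : G) * r⁻¹ = (N : G) from congrArg Subtype.val (hfix r hr), mul_inv_cancel]
      exact one_mem _
    · haveI : ((cen v).subgroupOf R).Normal :=
        ⟨fun a ha b => (Subgroup.mem_normalizer_iff.1 (hRX b.2) _).1 ha⟩
      exact ((cen v).subgroupOf R).pow_index_mem ⟨r, hr⟩
    · exact Nat.Coprime.coprime_dvd_right (orderOf_dvd_of_pow_eq_one hNs) (hco.pow_right k)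
  set c := g * v * g⁻¹ * v⁻¹ with hc
  have hgv : g * v * g⁻¹ = c * v := by rw [hc, inv_mul_cancel_right]
  have hgX : g ∈ Subgroup.normalizer (cen v : Set G) := H.mem_normalizer hM hvp hv hvp hv (self_mem_cen v)
    (by rw [hgv]; exact mul_mem (Subgroup.center_le_centralizer _ hg) (self_mem_cen v))
  have hcA : c ∈ A := by
    refine ⟨Subgroup.center_le_centralizer _ hg, Nat.Coprime.coprime_dvd_left ?_ hvp⟩
    exact orderOf_dvd_of_pow_eq_one (pow_orderOf_comm hg hgv)
  have hgN : σ g hgX N = (⟨c, hcA⟩ : A) ^ O.card * N := by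
    have himg : O.image (σ g hgX) = O.image (fun a : A => (⟨c, hcA⟩ : A) * a) := by
      refine Finset.eq_of_subset_of_card_le ?_ ?_
      · intro b hb
        obtain ⟨a, ha, rfl⟩ := Finset.mem_image.1 hb
        obtain ⟨t, ht, e⟩ := (Finset.mem_filter.1 ha).2
        have hmem := hmemA _ (hgR t ht)
        refine Finset.mem_image.2 ⟨⟨_, hmem⟩, Finset.mem_filter.2 ⟨Finset.mem_univ _, _, hgR t ht, rfl⟩,
          Subtype.ext ?_⟩
        show c * (g * t * g⁻¹ * v * (g * t * g⁻¹)⁻¹) = g * (a : G) * g⁻¹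
        rw [← e]
        have hcc : ∀ y : G, y * c = c * y := fun y => Subgroup.mem_center_iff.1 hg y
        calc c * (g * t * g⁻¹ * v * (g * t * g⁻¹)⁻¹) = (g * t * g⁻¹) * (c * v) * (g * t * g⁻¹)⁻¹ := by
              rw [← mul_assoc (g * t * g⁻¹) c v, hcc]; group
          _ = (g * t * g⁻¹) * (g * v * g⁻¹) * (g * t * g⁻¹)⁻¹ := by rw [hgv]
          _ = _ := by group
      · rw [Finset.card_image_of_injective _ (hσinj g hgX), Finset.card_image_of_injective _ (mul_right_injective _)]
    have e1 : σ g hgX N = ∏ b ∈ O.image (σ g hgX), b := by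
      rw [hN, map_prod]; exact (Finset.prod_image (f := fun b => b) (fun a _ b _ e => hσinj g hgX e)).symm
    rw [e1, himg, Finset.prod_image (fun a _ b _ e => mul_left_cancel e), Finset.prod_mul_distrib,
      Finset.prod_const, ← hN]
  have hcm : c ^ O.card = 1 := by
    have e2 : g * (N : G) * g⁻¹ = c ^ O.card * (N : G) := by
      have := congrArg Subtype.val hgN
      simpa [σ] using this
    rw [Subgroup.mem_center_iff.1 hNc g, mul_inv_cancel_right] at e2
    exact mul_eq_right.1 e2.symm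
  have hc1 : c = 1 := orderOf_eq_one_iff.1 (Nat.eq_one_of_dvd_coprimes (hcard ▸ hco.pow_right k)
    (orderOf_dvd_of_pow_eq_one hcm) (hvo ▸ orderOf_dvd_of_pow_eq_one (pow_orderOf_comm hg hgv)))
  rw [hc1, one_mul] at hgv
  exact mem_cen.2 (mul_inv_eq_iff_eq_mul.1 hgv)

end Hyp

end Cfsg.Agent.Transfer.TwoRegular
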