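import Mathlib
import Cfsg.Agent.Lib.Transfer.TwoRegular.Basic

/-!
The automizer `W = N(C)/C` of a centralizer `C = C(v)` acting on the abelian `p'`-parts modulo the center.
-/

set_option autoImplicit false
set_option maxHeartbeats 1000000

open scoped Pointwise

universe u

namespace Cfsg.Agent.Transfer.TwoRegular

open Cfsg Cfsg.Agent Cfsg.Agent.Transfer.ClassDisconnected Subgroup

variable {G : Type u} [Group G]

/-- The normalizer of a centralizer. -/
abbrev nor (v : G) : Subgroup G := Subgroup.normalizer (cen v : Set G)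

/-- The quotient of the normalizer of a centralizer by the centralizer. -/
abbrev aut (v : G) : Type u := ↥(nor v) ⧸ (cen v).subgroupOf (nor v)

theorem aut_mk_eq_one {v : G} {x : nor v} : (x : aut v) = 1 ↔ (x : G) ∈ cen v := by
  rw [QuotientGroup.eq_one_iff]; rfl

theorem index_nor_mul (v : G) : (cen v).relIndex (nor v) * (nor v).index = (cen v).index :=
  Subgroup.relIndex_mul_index Subgroup.le_normalizer

/-- A prime dividing the index of a centralizer containing a non-trivial `t`-subgroup gives a `t`-element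
outside it normalizing a Sylow `t`-subgroup of it. -/
theorem exists_normalizing [Finite G] (C : Subgroup G) {t : ℕ} [Fact t.Prime] (ht : t ∣ C.index)
    (T₀ : Subgroup G) (hT₀ : IsPGroup t T₀) (hT₀C : T₀ ≤ C) :
    ∃ h : G, h ∉ C ∧ (∃ j : ℕ, orderOf h = t ^ j) ∧ ∀ u ∈ T₀, h * u * h⁻¹ ∈ C := by
  obtain ⟨T₁, hT₁⟩ := (hT₀.comap_subtype (K := C)).exists_le_sylow
  set T' := (T₁ : Subgroup C).map C.subtype with hT'
  have hT'C : T' ≤ C := Subgroup.map_subtype_le _
  have hT'p : IsPGroup t T' := T₁.isPGroup'.map _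
  obtain ⟨T, hT⟩ := hT'p.exists_le_sylow
  have hlt : T'.subgroupOf (T : Subgroup G) < ⊤ := by
    refine lt_top_iff_ne_top.2 fun e => T.not_dvd_index ?_
    have e' : T' = T := le_antisymm hT (Subgroup.subgroupOf_eq_top.1 e)
    exact ht.trans (Subgroup.index_dvd_of_le (e' ▸ hT'C))
  haveI : Group.IsNilpotent T := T.isPGroup'.isNilpotent
  obtain ⟨x, hxN, hxT⟩ := SetLike.exists_of_lt
    (normalizerCondition_of_isNilpotent _ hlt)
  refine ⟨x, fun hxC => hxT ?_, (IsPGroup.iff_orderOf.1 T.isPGroup') x |>.imp fun j hj => by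
    rw [Subgroup.orderOf_coe]; exact hj, ?_⟩
  · have hp : IsPGroup t ((T : Subgroup G).subgroupOf C) := T.isPGroup'.comap_subtype
    have hle : (T₁ : Subgroup C) ≤ (T : Subgroup G).subgroupOf C := fun a ha =>
      hT (Subgroup.mem_map_of_mem _ ha)
    have he := T₁.is_maximal' hp hle
    have hx' : (⟨(x : G), hxC⟩ : C) ∈ (T : Subgroup G).subgroupOf C := x.2
    rw [he] at hx'
    exact Subgroup.mem_map_of_mem C.subtype hx'
  · intro u hu
    have hu' : u ∈ T' := ⟨⟨u, hT₀C hu⟩, hT₁ hu, rfl⟩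
    exact hT'C ((Subgroup.mem_normalizer_iff.1 hxN ⟨u, hT hu'⟩).1 hu')

namespace Hyp

variable [Finite G] {p n : ℕ} (H : Hyp G p n) (hM : ∀ q : ℕ, ∃ s, s ≠ q ∧ Sig G p s)

include H in
theorem card_aut_dvd {v : G} (hvp : (orderOf v).Coprime p) (hv : v ∉ Subgroup.center G) :
    Nat.card (aut v) ∣ n := by
  rw [← H.index_eq hvp hv, ← index_nor_mul]
  exact dvd_mul_right _ _

/-- The `r`-part of a centralizer. -/
def rPart (H : Hyp G p n) (hM : ∀ q : ℕ, ∃ s, s ≠ q ∧ Sig G p s) {v : G} (hvp : (orderOf v).Coprime p)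
    (hv : v ∉ Subgroup.center G) (r : ℕ) : Subgroup G where
  carrier := {a | a ∈ H.part hM hvp hv ∧ ∃ j : ℕ, a ^ (r ^ j) = 1}
  one_mem' := ⟨one_mem _, 0, one_pow _⟩
  mul_mem' := fun {a b} ⟨ha, i, hi⟩ ⟨hb, j, hj⟩ => ⟨mul_mem ha hb, i + j, by
    rw [Commute.mul_pow (H.central_in hM hvp hv hb.2 hb.1 ha.1), pow_add, pow_mul, hi, one_pow,
      one_mul, mul_comm, pow_mul, hj, one_pow]⟩
  inv_mem' := fun {a} ⟨ha, i, hi⟩ => ⟨inv_mem ha, i, by rw [inv_pow, hi, inv_one]⟩

/-- The `r`-part of a centralizer modulo the center. -/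
def rBar (H : Hyp G p n) (hM : ∀ q : ℕ, ∃ s, s ≠ q ∧ Sig G p s) {v : G} (hvp : (orderOf v).Coprime p)
    (hv : v ∉ Subgroup.center G) (r : ℕ) : Subgroup (G ⧸ Subgroup.center G) :=
  (H.rPart hM hvp hv r).map (QuotientGroup.mk' _)

theorem rBar_comm {v : G} (hvp : (orderOf v).Coprime p) (hv : v ∉ Subgroup.center G) (r : ℕ)
    (a b : H.rBar hM hvp hv r) : a * b = b * a := by
  obtain ⟨_, x, hx, rfl⟩ := a
  obtain ⟨_, y, hy, rfl⟩ := b
  refine Subtype.ext ?_
  show QuotientGroup.mk' _ x * QuotientGroup.mk' _ y = QuotientGroup.mk' _ y * QuotientGroup.mk' _ x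
  rw [← map_mul, ← map_mul, H.central_in hM hvp hv hy.1.2 hy.1.1 hx.1.1]

theorem mem_norm_rBar {v : G} (hvp : (orderOf v).Coprime p) (hv : v ∉ Subgroup.center G) (r : ℕ) (x : nor v) :
    (QuotientGroup.mk' (Subgroup.center G) (x : G)) ∈
      Subgroup.normalizer (H.rBar hM hvp hv r : Set (G ⧸ Subgroup.center G)) := by
  refine Subgroup.mem_normalizer_fintype fun a ha => ?_
  obtain ⟨u, ⟨⟨hu1, hu2⟩, j, hj⟩, rfl⟩ := ha
  exact ⟨(x : G) * u * (x : G)⁻¹, ⟨⟨(Subgroup.mem_normalizer_iff.1 x.2 u).1 hu1, by rw [orderOf_conj]; exact hu2⟩,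
    j, by rw [conj_pow, hj]; simp⟩, by simp⟩

/-- The action on the `r`-part modulo the center. -/
noncomputable def act (H : Hyp G p n) (hM : ∀ q : ℕ, ∃ s, s ≠ q ∧ Sig G p s) {v : G}
    (hvp : (orderOf v).Coprime p) (hv : v ∉ Subgroup.center G) (r : ℕ) :
    aut v →* MulAut (H.rBar hM hvp hv r) :=
  QuotientGroup.lift _
    ((Subgroup.normalizerMonoidHom (H.rBar hM hvp hv r)).comp
      (((QuotientGroup.mk' (Subgroup.center G)).comp (nor v).subtype).codRestrict _
        (H.mem_norm_rBar hM hvp hv r)))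
    (by
      intro x hx
      rw [MonoidHom.mem_ker]
      refine MulEquiv.ext fun a => Subtype.ext ?_
      obtain ⟨_, u, hu, rfl⟩ := a
      show QuotientGroup.mk' _ (x : G) * QuotientGroup.mk' _ u * (QuotientGroup.mk' _ (x : G))⁻¹ = QuotientGroup.mk' _ u
      have e : (x : G) * u = u * (x : G) := H.central_in hM hvp hv hu.1.2 hu.1.1 hx
      rw [← map_mul, e, map_mul, mul_inv_cancel_right])

theorem act_apply {v : G} (hvp : (orderOf v).Coprime p) (hv : v ∉ Subgroup.center G) (r : ℕ) (x : nor v)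
    (a : H.rBar hM hvp hv r) :
    ((H.act hM hvp hv r (x : aut v) a : H.rBar hM hvp hv r) : G ⧸ Subgroup.center G) =
      QuotientGroup.mk' _ (x : G) * (a : G ⧸ Subgroup.center G) * (QuotientGroup.mk' _ (x : G))⁻¹ := rfl

include H hM in
/-- Elements of coprime order act without fixed points. -/
theorem act_free {v : G} (hvp : (orderOf v).Coprime p) (hv : v ∉ Subgroup.center G) {r q : ℕ}
    (hr : r.Prime) (hq : q.Prime) (hqr : q ≠ r) {w : aut v} (hw : w ≠ 1) (hwq : w ^ q = 1)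
    {a : H.rBar hM hvp hv r} (ha : H.act hM hvp hv r w a = a) : a = 1 := by
  obtain ⟨x, rfl⟩ := QuotientGroup.mk_surjective w
  have hxa := H.act_apply hM hvp hv r x a
  rw [ha] at hxa
  obtain ⟨_, u, ⟨⟨hu1, hu2⟩, j, hj⟩, rfl⟩ := a
  refine Subtype.ext ?_
  show QuotientGroup.mk' (Subgroup.center G) u = 1
  rw [QuotientGroup.mk'_apply, QuotientGroup.eq_one_iff]
  by_contra huc
  apply hw
  rw [aut_mk_eq_one]
  refine H.free hM hvp hv hu2 huc hu1 ?_ (k := q) ?_ ?_
  · rw [← QuotientGroup.eq_one_iff]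
    have : QuotientGroup.mk' (Subgroup.center G) ((x : G) * u * (x : G)⁻¹ * u⁻¹) = 1 := by
      rw [map_mul, map_mul, map_mul, map_inv, map_inv]
      rw [← show QuotientGroup.mk' _ u = _ from hxa, mul_inv_cancel]
    exact this
  · rw [← QuotientGroup.mk_pow, aut_mk_eq_one] at hwq
    simpa using hwq
  · exact Nat.Coprime.coprime_dvd_right (orderOf_dvd_of_pow_eq_one hj)
      (((Nat.coprime_primes hq hr).2 hqr).pow_right j)

include H hM in
theorem exists_rBar {v : G} (hvp : (orderOf v).Coprime p) (hv : v ∉ Subgroup.center G) {r : ℕ}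
    (hr : Sig G p r) : ∃ a : H.rBar hM hvp hv r, orderOf a = r := by
  obtain ⟨u, hu, huc, j, hj⟩ := H.exists_mem hvp hv hr
  let a : H.rBar hM hvp hv r := ⟨QuotientGroup.mk' _ u, u,
    ⟨⟨hu, H.preg_primary hr.1 hr.2.1 hj⟩, j, by rw [← hj, pow_orderOf_eq_one]⟩, rfl⟩
  have ha1 : a ≠ 1 := fun e => huc ((QuotientGroup.eq_one_iff u).1 (congrArg Subtype.val e))
  have hd : orderOf a ∣ r ^ j := by
    rw [← Subgroup.orderOf_coe]
    exact hj ▸ orderOf_map_dvd (QuotientGroup.mk' _) u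
  obtain ⟨i, -, hi⟩ := (Nat.dvd_prime_pow hr.1).1 hd
  have hi0 : i ≠ 0 := fun e => ha1 (orderOf_eq_one_iff.1 (by rw [hi, e, pow_zero]))
  refine ⟨a ^ r ^ (i - 1), ?_⟩
  rw [orderOf_pow_of_dvd (pow_ne_zero _ hr.1.ne_zero) (hi ▸ pow_dvd_pow r (Nat.sub_le i 1)), hi,
    Nat.pow_div (Nat.sub_le i 1) hr.1.pos, show i - (i - 1) = 1 by omega, pow_one]

include H hM in
/-- No elementary abelian group of rank two acts. -/
theorem rank_two_false {v : G} (hvp : (orderOf v).Coprime p) (hv : v ∉ Subgroup.center G) {r q : ℕ}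
    (hr : Sig G p r) (hq : q.Prime) (hqr : q ≠ r) {a b : aut v} (hab : Commute a b) (ha : a ^ q = 1)
    (hb : b ^ q = 1) (hind : ∀ i j : ℕ, i < q → j < q → (i, j) ≠ (0, 0) → a ^ i * b ^ j ≠ 1) : False := by
  obtain ⟨w, hw⟩ := H.exists_rBar hM hvp hv hr
  letI : CommGroup (H.rBar hM hvp hv r) := { (inferInstance : Group (H.rBar hM hvp hv r)) with
    mul_comm := H.rBar_comm hM hvp hv r }
  set φ := H.act hM hvp hv r
  refine OneClassSize.fpf_false hq hr.1 hqr (φ a) (φ b) (hab.map φ) (by rw [← map_pow, ha, map_one])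
    (by rw [← map_pow, hb, map_one]) (fun i j hi hj hij u _ hfix => ?_) hw
  rw [← map_pow, ← map_pow, ← map_mul] at hfix
  exact H.act_free hM hvp hv hr.1 hq hqr (hind i j hi hj hij)
    (by rw [(hab.pow_pow i j).mul_pow, ← pow_mul, ← pow_mul, mul_comm i, mul_comm j, pow_mul, pow_mul,
      ha, hb, one_pow, one_pow, one_mul]) hfix

include H hM in
/-- An involution inverts every part of odd order. -/
theorem act_involution {v : G} (hvp : (orderOf v).Coprime p) (hv : v ∉ Subgroup.center G) {r : ℕ}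
    (hr : r.Prime) (hr2 : 2 ≠ r) {w : aut v} (hw : w ≠ 1) (hw2 : w ^ 2 = 1) (a : H.rBar hM hvp hv r) :
    H.act hM hvp hv r w a = a⁻¹ := by
  set φ := H.act hM hvp hv r
  refine eq_inv_of_mul_eq_one_left (H.act_free hM hvp hv hr Nat.prime_two hr2 hw hw2 ?_)
  rw [map_mul]
  have e : φ w (φ w a) = a := by
    rw [← MulAut.mul_apply, ← map_mul, ← sq, hw2, map_one, MulAut.one_apply]
  rw [e, H.rBar_comm hM hvp hv r]

include H hM in
/-- A nontrivial subgroup of the automizer of order prime to `s` is not normalized by an element `g` as in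
`Hyp.avg`. -/
theorem no_normalised {v g : G} {s k : ℕ} (hs : s.Prime) (hsp : s ≠ p) (hvo : orderOf v = s ^ k)
    (hv : v ∉ Subgroup.center G) (hg : g * v * g⁻¹ * v⁻¹ ∈ Subgroup.center G) (hgC : g ∉ cen v)
    (hgX : g ∈ nor v) (K : Subgroup (aut v)) (hK : K ≠ ⊥) (hKs : (Nat.card K).Coprime s)
    (hnorm : ∀ a ∈ K, ((⟨g, hgX⟩ : nor v) : aut v) * a * ((⟨g, hgX⟩ : nor v) : aut v)⁻¹ ∈ K) : False := by
  set f := QuotientGroup.mk' ((cen v).subgroupOf (nor v)) with hf
  set R := (K.comap f).map (nor v).subtype with hR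
  have hCle : cen v ≤ nor v := Subgroup.le_normalizer
  have hC : ((⊥ : Subgroup (aut v)).comap f).map (nor v).subtype = cen v := by
    rw [MonoidHom.comap_bot, QuotientGroup.ker_mk', Subgroup.subgroupOf_map_subtype, inf_of_le_left hCle]
  have hrel : (cen v).relIndex R = Nat.card K := by
    have h0 : (((⊥ : Subgroup (aut v)).comap f).map (nor v).subtype).relIndex R = Nat.card K := by
      rw [hR, Subgroup.relIndex_map_map_of_injective _ _ (nor v).subtype_injective, Subgroup.relIndex_comap,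
        Subgroup.map_comap_eq_self_of_surjective (QuotientGroup.mk'_surjective _), Subgroup.relIndex_bot_left]
    rwa [hC] at h0
  refine hgC (H.avg hM hs hsp hvo hv hg (R := R) ?_ (Subgroup.map_subtype_le _) ?_ ?_ (hrel ▸ hKs))
  · have h1 : ((⊥ : Subgroup (aut v)).comap f).map (nor v).subtype ≤ R := Subgroup.map_mono (Subgroup.comap_mono bot_le)
    rwa [hC] at h1
  · rintro _ ⟨x, hx, rfl⟩
    exact ⟨⟨g, hgX⟩ * x * ⟨g, hgX⟩⁻¹, by
      show f (_ * x * _) ∈ K
      rw [map_mul, map_mul, map_inv]; exact hnorm _ hx, rfl⟩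
  · obtain ⟨a, ha, ha1⟩ := (Subgroup.bot_or_exists_ne_one K).resolve_left hK
    obtain ⟨x, rfl⟩ := QuotientGroup.mk'_surjective _ a
    exact ⟨x, Subgroup.mem_map_of_mem _ ha, fun h => ha1 (aut_mk_eq_one.2 h)⟩

end Hyp

end Cfsg.Agent.Transfer.TwoRegular
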