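import Mathlib
import Cfsg.Agent.Lib.Transfer.TwoRegular.Action
import Cfsg.Agent.S0016

/-!
At most one prime other than `p` divides the class size of the noncentral `p`-regular elements.
-/

set_option autoImplicit false
set_option maxHeartbeats 1000000

open scoped Pointwise

universe u

namespace Cfsg.Agent.Transfer.TwoRegular

open Cfsg Cfsg.Agent Cfsg.Agent.Transfer.ClassDisconnected Subgroup

variable {G : Type u} [Group G] [Finite G]

/-- A cyclic Sylow subgroup for the smallest prime gives a normal complement. -/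
theorem exists_normal_complement {K : Type u} [Group K] [Finite K] {q : ℕ} [Fact q.Prime]
    (hq : (Nat.card K).minFac = q) (P : Sylow q K) (hP : IsCyclic P) :
    ∃ N : Subgroup K, N.Normal ∧ Nat.card N = (P : Subgroup K).index ∧
      ∀ x : K, (orderOf x).Coprime q → x ∈ N := by
  haveI : (MonoidHom.transferSylow P (hP.normalizer_le_centralizer hq)).ker.Normal := MonoidHom.normal_ker _
  set N := (MonoidHom.transferSylow P (hP.normalizer_le_centralizer hq)).ker
  have hc : N.IsComplement' P := hP.isComplement' hq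
  refine ⟨N, inferInstance, hc.index_eq_card.symm.trans rfl, fun x hx => ?_⟩
  rw [← QuotientGroup.eq_one_iff, ← orderOf_eq_one_iff]
  obtain ⟨k, hk⟩ := IsPGroup.iff_card.1 P.isPGroup'
  have h1 : orderOf (x : K ⧸ N) ∣ q ^ k := by
    rw [← hk, ← hc.symm.index_eq_card, Subgroup.index_eq_card]
    exact orderOf_dvd_natCard _
  have h2 : orderOf (x : K ⧸ N) ∣ orderOf x := orderOf_map_dvd (QuotientGroup.mk' N) x
  exact Nat.eq_one_of_dvd_coprimes (hx.pow_right k) h2 h1

namespace Hyp

variable {p n : ℕ} (H : Hyp G p n) (hM : ∀ q : ℕ, ∃ s, s ≠ q ∧ Sig G p s)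

include H hM in
theorem exists_special {s : ℕ} [Fact s.Prime] (hsp : s ≠ p) (hsn : s ∣ n) :
    ∃ (S : Sylow s G) (v : G), v ∈ (S : Subgroup G) ∧ v ∉ Subgroup.center G ∧
      (∃ k : ℕ, orderOf v = s ^ k) ∧ v ^ s ∈ Subgroup.center G ∧
      ∀ g ∈ (S : Subgroup G), g * v * g⁻¹ * v⁻¹ ∈ Subgroup.center G := by
  obtain ⟨S⟩ : Nonempty (Sylow s G) := inferInstance
  set K := (Subgroup.center G).subgroupOf (S : Subgroup G)
  haveI hKn : K.Normal := ⟨fun a ha b => (inferInstance : (Subgroup.center G).Normal).conj_mem (a : G) ha (b : G)⟩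
  have hK : K ≠ ⊤ := by
    intro e
    obtain ⟨q, -, hqpr, hqp, u, huc, k, hk⟩ := hM s
    refine S.not_dvd_index ?_
    have hle : (S : Subgroup G) ≤ cen u :=
      (Subgroup.subgroupOf_eq_top.1 e).trans (Subgroup.center_le_centralizer _)
    exact (hsn.trans (H.index_eq (H.preg_primary hqpr hqp hk) huc).symm.dvd).trans (Subgroup.index_dvd_of_le hle)
  haveI : Nontrivial ((S : Subgroup G) ⧸ K) := QuotientGroup.nontrivial_iff.2 hK
  have hQ : IsPGroup s ((S : Subgroup G) ⧸ K) := S.isPGroup'.to_quotient K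
  haveI := hQ.center_nontrivial
  obtain ⟨j, hj⟩ := IsPGroup.iff_card.1 (hQ.to_subgroup (Subgroup.center _))
  have hj0 : j ≠ 0 := fun e => by
    have := Finite.one_lt_card (α := Subgroup.center ((S : Subgroup G) ⧸ K))
    rw [hj, e, pow_zero] at this; exact lt_irrefl _ this
  obtain ⟨z, hz⟩ := exists_prime_orderOf_dvd_card' (G := Subgroup.center ((S : Subgroup G) ⧸ K)) s
    (hj ▸ dvd_pow_self s hj0)
  obtain ⟨v, hv⟩ := QuotientGroup.mk_surjective (z : (S : Subgroup G) ⧸ K)
  refine ⟨S, v, v.2, fun hvc => ?_, ?_, ?_, fun g hg => ?_⟩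
  · have : (v : (S : Subgroup G) ⧸ K) = 1 := (QuotientGroup.eq_one_iff _).2 hvc
    rw [hv] at this
    rw [show z = 1 from Subtype.ext this, orderOf_one] at hz
    exact (Fact.out : s.Prime).one_lt.ne hz
  · obtain ⟨k, hk⟩ := (IsPGroup.iff_orderOf.1 S.isPGroup') v
    exact ⟨k, by rw [Subgroup.orderOf_coe]; exact hk⟩
  · have : ((v ^ s : (S : Subgroup G)) : (S : Subgroup G) ⧸ K) = 1 := by
      rw [QuotientGroup.mk_pow, hv, ← SubgroupClass.coe_pow, orderOf_dvd_iff_pow_eq_one.1 hz.dvd]; rfl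
    have h2 := (QuotientGroup.eq_one_iff (v ^ s)).1 this
    exact h2
  · have h1 : ((⟨g, hg⟩ * v * ⟨g, hg⟩⁻¹ * v⁻¹ : (S : Subgroup G)) : (S : Subgroup G) ⧸ K) = 1 := by
      rw [QuotientGroup.mk_mul, QuotientGroup.mk_mul, QuotientGroup.mk_mul, QuotientGroup.mk_inv,
        QuotientGroup.mk_inv, hv, Subgroup.mem_center_iff.1 z.2, mul_inv_cancel_right, mul_inv_cancel]
    have h2 := (QuotientGroup.eq_one_iff (⟨g, hg⟩ * v * ⟨g, hg⟩⁻¹ * v⁻¹ : (S : Subgroup G))).1 h1
    exact h2

include H hM in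
/-- If two primes other than `p` divide `n`, the smaller one gives a contradiction. -/
theorem false_of_two {s t : ℕ} [Fact s.Prime] [Fact t.Prime] (hsp : s ≠ p) (htp : t ≠ p) (hts : t ≠ s)
    (hsn : s ∣ n) (htn : t ∣ n) (hmin : ∀ r : ℕ, r.Prime → r ∣ n → r ≠ p → s ≤ r) : False := by
  have hs : s.Prime := Fact.out
  have ht : t.Prime := Fact.out
  obtain ⟨S, v, hvS, hv, ⟨k, hvo⟩, hvs, hS⟩ := H.exists_special hM hsp hsn
  have hvp := H.preg_primary hs hsp hvo
  -- `t` is in `Sig`
  have hSig : ∀ r : ℕ, r.Prime → r ≠ p → r ∣ n → Sig G p r := by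
    intro r hr hrp hrn
    haveI : Fact r.Prime := ⟨hr⟩
    obtain ⟨R, u, -, hu, ho, -, -⟩ := H.exists_special hM hrp hrn
    exact ⟨hr, hrp, u, hu, ho⟩
  have hSigs := hSig s hs hsp hsn
  have hSigt := hSig t ht htp htn
  have hgC : ∀ g ∈ (S : Subgroup G), g ^ s ∈ cen v := by
    intro g hg
    have hc := hS g hg
    set c := g * v * g⁻¹ * v⁻¹ with hcdef
    have h : g * v * g⁻¹ = c * v := by rw [hcdef, inv_mul_cancel_right]
    have hcs : c ^ s = 1 := by
      have hcu : Commute c v := (Subgroup.mem_center_iff.1 hc v).symm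
      have := congrArg (fun z => z ^ s) h
      simp only [conj_pow, hcu.mul_pow] at this
      rw [Subgroup.mem_center_iff.1 hvs g, mul_inv_cancel_right] at this
      exact mul_eq_right.1 this.symm
    have := conj_pow_eq hc h s
    rw [hcs, one_mul, mul_inv_eq_iff_eq_mul] at this
    exact mem_cen.2 this
  have hSX : (S : Subgroup G) ≤ nor v := fun g hg => H.mem_normalizer hM hvp hv hvp hv (self_mem_cen v) (by
    rw [show g * v * g⁻¹ = (g * v * g⁻¹ * v⁻¹) * v by group]
    exact mul_mem (Subgroup.center_le_centralizer _ (hS g hg)) (self_mem_cen v))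
  set f := QuotientGroup.mk' ((cen v).subgroupOf (nor v)) with hf
  set P : Sylow s (aut v) := (S.subtype hSX).mapSurjective (QuotientGroup.mk'_surjective _) with hP
  have hmemP : ∀ a ∈ (P : Subgroup (aut v)), ∃ g : G, ∃ hg : g ∈ (S : Subgroup G), f ⟨g, hSX hg⟩ = a := by
    intro a ha
    rw [hP, Sylow.coe_mapSurjective] at ha
    obtain ⟨x, hx, rfl⟩ := ha
    exact ⟨x, hx, rfl⟩
  have hPs : ∀ a ∈ (P : Subgroup (aut v)), a ^ s = 1 := by
    intro a ha
    obtain ⟨g, hg, rfl⟩ := hmemP a ha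
    rw [← map_pow]
    exact aut_mk_eq_one.2 (hgC g hg)
  have hPc : ∀ a ∈ (P : Subgroup (aut v)), ∀ b ∈ (P : Subgroup (aut v)), Commute a b := by
    intro a ha b hb
    obtain ⟨g, hg, rfl⟩ := hmemP a ha
    obtain ⟨h, hh, rfl⟩ := hmemP b hb
    rw [commute_iff_eq, ← inv_mul_eq_one, ← map_mul, ← map_mul, ← map_inv, ← map_mul]
    refine aut_mk_eq_one.2 ?_
    show (g * h)⁻¹ * (h * g) ∈ cen v
    rw [mem_cen]
    have e1 := hS g hg
    have e2 := hS h hh
    set c := g * v * g⁻¹ * v⁻¹ with hc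
    set d := h * v * h⁻¹ * v⁻¹ with hd
    have hgv : g * v * g⁻¹ = c * v := by rw [hc, inv_mul_cancel_right]
    have hhv : h * v * h⁻¹ = d * v := by rw [hd, inv_mul_cancel_right]
    have hgd : g * d = d * g := Subgroup.mem_center_iff.1 e2 g
    have hhc : h * c = c * h := Subgroup.mem_center_iff.1 e1 h
    have key1 : (g * h) * v * (g * h)⁻¹ = d * c * v := by
      calc (g * h) * v * (g * h)⁻¹ = g * (h * v * h⁻¹) * g⁻¹ := by group
        _ = g * d * v * g⁻¹ := by rw [hhv]; group
        _ = d * (g * v * g⁻¹) := by rw [hgd]; group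
        _ = _ := by rw [hgv, ← mul_assoc]
    have key2 : (h * g) * v * (h * g)⁻¹ = d * c * v := by
      calc (h * g) * v * (h * g)⁻¹ = h * (g * v * g⁻¹) * h⁻¹ := by group
        _ = h * c * v * h⁻¹ := by rw [hgv]; group
        _ = c * (h * v * h⁻¹) := by rw [hhc]; group
        _ = _ := by rw [hhv, ← mul_assoc, Subgroup.mem_center_iff.1 e2 c]
    calc (g * h)⁻¹ * (h * g) * v = (g * h)⁻¹ * ((h * g) * v * (h * g)⁻¹) * (h * g) := by group
      _ = (g * h)⁻¹ * ((g * h) * v * (g * h)⁻¹) * (h * g) := by rw [key1, key2]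
      _ = _ := by group
  obtain ⟨g₀, hg₀S, hg₀⟩ : ∃ g ∈ (S : Subgroup G), g ∉ cen v := by
    by_contra hno
    push Not at hno
    exact S.not_dvd_index ((hsn.trans (H.index_eq hvp hv).symm.dvd).trans (Subgroup.index_dvd_of_le hno))
  set a₀ : aut v := f ⟨g₀, hSX hg₀S⟩ with ha₀
  have ha₀P : a₀ ∈ (P : Subgroup (aut v)) := by
    rw [hP, Sylow.coe_mapSurjective]; exact Subgroup.mem_map_of_mem _ hg₀S
  have ha₀1 : a₀ ≠ 1 := fun e => hg₀ (aut_mk_eq_one.1 e)
  have ha₀o : orderOf a₀ = s := orderOf_eq_prime (hPs _ ha₀P) ha₀1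
  have hPcard : Nat.card (P : Subgroup (aut v)) = s := by
    refine Eq.trans ?_ ((Nat.card_zpowers a₀).trans ha₀o)
    refine congrArg (fun U : Subgroup (aut v) => Nat.card U) (le_antisymm ?_ (Subgroup.zpowers_le.2 ha₀P))
    intro b hb
    by_contra hbn
    refine H.rank_two_false hM hvp hv hSigt hs hts.symm (hPc _ ha₀P _ hb) (hPs _ ha₀P) (hPs _ hb) ?_
    intro i j hi hj hij e
    by_cases hj0 : j = 0
    · subst hj0
      have hi0 : i ≠ 0 := fun e0 => hij (by rw [e0])
      rw [pow_zero, mul_one] at e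
      exact absurd (Nat.le_of_dvd (Nat.pos_of_ne_zero hi0) (ha₀o ▸ orderOf_dvd_of_pow_eq_one e)) (by omega)
    · apply hbn
      have hco : j.Coprime s := (hs.coprime_iff_not_dvd.2 fun hd =>
        absurd (Nat.le_of_dvd (Nat.pos_of_ne_zero hj0) hd) (by omega)).symm
      obtain ⟨m, hm⟩ := exists_pow_eq_self_of_coprime (hco.coprime_dvd_right (orderOf_dvd_of_pow_eq_one (hPs _ hb)))
      rw [← hm, eq_inv_of_mul_eq_one_right e]
      exact Subgroup.pow_mem _ (inv_mem (Subgroup.pow_mem _ (Subgroup.mem_zpowers _) _)) _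
  have hsW : ¬ s ^ 2 ∣ Nat.card (aut v) := by
    intro hd
    have h1 := P.card_eq_multiplicity
    rw [hPcard] at h1
    have h2 := (hs.pow_dvd_iff_le_factorization Nat.card_pos.ne').1 hd
    rw [← Nat.pow_right_injective hs.two_le (show s ^ 1 = s ^ _ from (pow_one s).trans h1)] at h2
    omega
  obtain ⟨x, hx, htx⟩ : ∃ x : aut v, x ≠ 1 ∧ ∃ j, orderOf x = t ^ j := by
    obtain ⟨u, hu, huc, j, hj⟩ := H.exists_mem hvp hv hSigt
    obtain ⟨h, hhC, ⟨i, hi⟩, hh⟩ := exists_normalizing (cen v) (t := t)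
      (htn.trans (H.index_eq hvp hv).symm.dvd) (Subgroup.zpowers u)
      (IsPGroup.of_card (n := j) (by rw [Nat.card_zpowers, hj])) (Subgroup.zpowers_le.2 hu)
    have hhX : h ∈ nor v := H.mem_normalizer hM hvp hv (H.preg_primary ht htp hj) huc hu
      (hh u (Subgroup.mem_zpowers u))
    refine ⟨f ⟨h, hhX⟩, fun e => hhC (aut_mk_eq_one.1 e), ?_⟩
    have hd : orderOf (f ⟨h, hhX⟩) ∣ t ^ i := hi ▸ (orderOf_map_dvd f _).trans (Subgroup.orderOf_mk h hhX).dvd
    obtain ⟨l, -, hl⟩ := (Nat.dvd_prime_pow ht).1 hd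
    exact ⟨l, hl⟩
  have hprime : ∀ r : ℕ, r.Prime → r ∣ Nat.card (aut v) → r ≠ p → s ≤ r := fun r hr hd hrp =>
    hmin r hr (hd.trans (H.card_aut_dvd hvp hv)) hrp
  have hno := H.no_normalised hM hs hsp hvo hv (hS g₀ hg₀S) hg₀ (hSX hg₀S)
  -- a subgroup containing `a₀` and `x` with smallest prime `s`
  have hKfalse : ∀ K : Subgroup (aut v), a₀ ∈ K → x ∈ K →
      (∀ r : ℕ, r.Prime → r ∣ Nat.card K → s ≤ r) → False := by
    intro K haK hxK hK
    have hsK : s ∣ Nat.card K := ha₀o ▸ K.orderOf_dvd_natCard haK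
    have hminK : (Nat.card K).minFac = s := by
      refine le_antisymm (Nat.minFac_le_of_dvd hs.two_le hsK) (hK _ (Nat.minFac_prime fun e => ?_) (Nat.minFac_dvd _))
      exact hs.ne_one (Nat.dvd_one.1 (e ▸ hsK))
    obtain ⟨Q⟩ : Nonempty (Sylow s K) := inferInstance
    have hQcard : Nat.card (Q : Subgroup K) = s := by
      obtain ⟨e, he⟩ := IsPGroup.iff_card.1 Q.isPGroup'
      rcases Nat.lt_or_ge e 2 with h2 | h2
      · rcases Nat.eq_zero_or_pos e with rfl | h0
        · exfalso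
          have := Q.dvd_card_of_dvd_card hsK
          rw [he, pow_zero, Nat.dvd_one] at this
          exact hs.ne_one this
        · rw [he, show e = 1 by omega, pow_one]
      · exfalso
        exact hsW (((pow_dvd_pow s h2).trans (he ▸ Subgroup.card_subgroup_dvd_card (Q : Subgroup K))).trans
          (Subgroup.card_subgroup_dvd_card K))
    haveI : IsCyclic (Q : Subgroup K) := isCyclic_of_prime_card hQcard
    obtain ⟨N, hNn, hNcard, hNmem⟩ := exists_normal_complement hminK Q inferInstance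
    refine hno (N.map K.subtype) (fun e => ?_) ?_ ?_
    · have : (⟨x, hxK⟩ : K) ∈ N := hNmem _ (by
        rw [Subgroup.orderOf_mk]
        obtain ⟨j, hj⟩ := htx
        rw [hj]; exact Nat.Coprime.pow_left _ ((Nat.coprime_primes ht hs).2 hts))
      have h1 := Subgroup.mem_map_of_mem K.subtype this
      rw [e, Subgroup.mem_bot] at h1
      exact hx h1
    · rw [Subgroup.card_map_of_injective K.subtype_injective, hNcard]
      exact (hs.coprime_iff_not_dvd.2 Q.not_dvd_index).symm
    · rintro _ ⟨y, hy, rfl⟩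
      exact ⟨⟨a₀, haK⟩ * y * ⟨a₀, haK⟩⁻¹, hNn.conj_mem y hy _, rfl⟩
  by_cases h2 : p = 2 ∧ 2 ∣ Nat.card (aut v)
  · -- a unique involution
    obtain ⟨hp2, hd⟩ := h2
    obtain ⟨w, hwo⟩ := exists_prime_orderOf_dvd_card' (G := aut v) 2 hd
    have hs2 : 2 ≠ s := fun e => hsp (e ▸ hp2.symm)
    have ht2 : 2 ≠ t := fun e => htp (e ▸ hp2.symm)
    have hw1 : w ≠ 1 := fun e => by rw [e, orderOf_one] at hwo; omega
    have hw2 : w ^ 2 = 1 := hwo ▸ pow_orderOf_eq_one w
    refine hno (Subgroup.zpowers w) (Subgroup.zpowers_ne_bot.2 hw1)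
      (by rw [Nat.card_zpowers, hwo]; exact (Nat.coprime_primes Nat.prime_two hs).2 hs2) fun y hy => ?_
    suffices huniq : ∀ w' : aut v, w' ≠ 1 → w' ^ 2 = 1 → w' = w by
      have e : a₀ * w * a₀⁻¹ = w := huniq _ (fun e => hw1 (conj_eq_one_iff.1 e))
        (by rw [conj_pow, hw2, mul_one, mul_inv_cancel])
      obtain ⟨i, rfl⟩ := Subgroup.mem_zpowers_iff.1 hy
      show a₀ * w ^ i * a₀⁻¹ ∈ _
      rw [← conj_zpow, e]
      exact Subgroup.zpow_mem _ (Subgroup.mem_zpowers w) i
    intro w' hw'1 hw'2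
    by_contra hne
    set z := w' * w with hz
    have hz1 : z ≠ 1 := fun e => hne (by
      rw [eq_inv_of_mul_eq_one_left e]; exact inv_eq_of_mul_eq_one_right (by rw [← sq, hw2]))
    have hfix : ∀ r : ℕ, r.Prime → 2 ≠ r → ∀ a : H.rBar hM hvp hv r, H.act hM hvp hv r z a = a := by
      intro r hr hr2 a
      rw [hz, map_mul, MulAut.mul_apply, H.act_involution hM hvp hv hr hr2 hw1 hw2,
        H.act_involution hM hvp hv hr hr2 hw'1 hw'2, inv_inv]
    obtain ⟨r, hr, m, hm⟩ := Nat.exists_prime_and_dvd (n := orderOf z) fun e => hz1 (orderOf_eq_one_iff.1 e)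
    have hzm : z ^ m ≠ 1 := fun e => by
      have hm0 : m ≠ 0 := fun e0 => (orderOf_pos z).ne' (by rw [hm, e0, mul_zero])
      have := Nat.le_of_dvd (Nat.pos_of_ne_zero hm0) (orderOf_dvd_of_pow_eq_one e)
      rw [hm] at this
      have := Nat.mul_le_mul_right m hr.two_le
      omega
    have hzr : (z ^ m) ^ r = 1 := by rw [← pow_mul, mul_comm, ← hm, pow_orderOf_eq_one]
    have hfix' : ∀ r' : ℕ, r'.Prime → 2 ≠ r' → ∀ a : H.rBar hM hvp hv r', H.act hM hvp hv r' (z ^ m) a = a := by
      intro r' hr' hr'2 a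
      have hh : ∀ l : ℕ, (H.act hM hvp hv r' z ^ l) a = a := by
        intro l
        induction l with
        | zero => simp
        | succ l ih => rw [pow_succ', MulAut.mul_apply, ih, hfix r' hr' hr'2]
      rw [map_pow]
      exact hh m
    rcases eq_or_ne r s with hrs | hrs
    · obtain ⟨a, ha⟩ := H.exists_rBar hM hvp hv hSigt
      have := H.act_free hM hvp hv ht hr (hrs ▸ hts.symm) hzm hzr (hfix' t ht ht2 a)
      rw [this, orderOf_one] at ha
      exact ht.ne_one ha.symm
    · obtain ⟨a, ha⟩ := H.exists_rBar hM hvp hv hSigs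
      have := H.act_free hM hvp hv hs hr hrs hzm hzr (hfix' s hs hs2 a)
      rw [this, orderOf_one] at ha
      exact hs.ne_one ha.symm
  · by_cases hpW : p ∣ Nat.card (aut v) ∧ p < s
    · obtain ⟨hpd, hps⟩ := hpW
      haveI : Fact p.Prime := ⟨H.prime⟩
      have hp2 : p ≠ 2 := fun e => h2 ⟨e, e ▸ hpd⟩
      have hmin' : (Nat.card (aut v)).minFac = p := by
        refine le_antisymm (Nat.minFac_le_of_dvd H.prime.two_le hpd) ?_
        by_contra hlt
        push Not at hlt
        have hne : Nat.card (aut v) ≠ 1 := fun e => H.prime.ne_one (Nat.dvd_one.1 (e ▸ hpd))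
        have := hprime _ (Nat.minFac_prime hne) (Nat.minFac_dvd _) hlt.ne
        omega
      obtain ⟨Q⟩ : Nonempty (Sylow p (aut v)) := inferInstance
      have hQne : Nontrivial (Q : Subgroup (aut v)) :=
        (Subgroup.nontrivial_iff_ne_bot _).2 (Q.ne_bot_of_dvd_card hpd)
      haveI := Q.isPGroup'.center_nontrivial
      obtain ⟨j, hj⟩ := IsPGroup.iff_card.1 (Q.isPGroup'.to_subgroup (Subgroup.center (Q : Subgroup (aut v))))
      obtain ⟨c, hc⟩ := exists_prime_orderOf_dvd_card' (G := Subgroup.center (Q : Subgroup (aut v))) p (by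
        rw [hj]; refine dvd_pow_self p fun e => ?_
        have := Finite.one_lt_card (α := Subgroup.center (Q : Subgroup (aut v)))
        rw [hj, e, pow_zero] at this; exact lt_irrefl _ this)
      have hco : orderOf ((c : (Q : Subgroup (aut v))) : aut v) = p := by
        rw [Subgroup.orderOf_coe, Subgroup.orderOf_coe, hc]
      have hall : ∀ y : (Q : Subgroup (aut v)), y ^ p = 1 → y ∈ Subgroup.zpowers (c : (Q : Subgroup (aut v))) := by
        intro y hy
        by_contra hyn
        refine H.rank_two_false hM hvp hv hSigs (a := ((c : (Q : Subgroup (aut v))) : aut v)) (b := (y : aut v))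
          H.prime hps.ne ?_ (orderOf_dvd_iff_pow_eq_one.1 hco.dvd) (congrArg Subtype.val hy) ?_
        · exact congrArg Subtype.val (Subgroup.mem_center_iff.1 c.2 y).symm
        intro i j hi hj' hij e
        by_cases hj0 : j = 0
        · subst hj0
          have hi0 : i ≠ 0 := fun e0 => hij (by rw [e0])
          rw [pow_zero, mul_one] at e
          exact absurd (Nat.le_of_dvd (Nat.pos_of_ne_zero hi0) (hco ▸ orderOf_dvd_of_pow_eq_one e)) (by omega)
        · apply hyn
          have hco' : j.Coprime p := (H.prime.coprime_iff_not_dvd.2 fun hd =>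
            absurd (Nat.le_of_dvd (Nat.pos_of_ne_zero hj0) hd) (by omega)).symm
          obtain ⟨m, hm⟩ := exists_pow_eq_self_of_coprime (hco'.coprime_dvd_right (orderOf_dvd_of_pow_eq_one hy))
          have e' : (c : (Q : Subgroup (aut v))) ^ i * y ^ j = 1 := Subtype.ext e
          rw [← hm, eq_inv_of_mul_eq_one_right e']
          exact Subgroup.pow_mem _ (inv_mem (Subgroup.pow_mem _ (Subgroup.mem_zpowers _) _)) _
      have key : ∀ L : Subgroup (Q : Subgroup (aut v)), Nat.card L = p →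
          L = Subgroup.zpowers (c : (Q : Subgroup (aut v))) := fun L hL =>
        Subgroup.eq_of_le_of_card_ge (fun l hl => hall l (by
          have h1 := pow_card_eq_one' (G := L) (x := ⟨l, hl⟩)
          rw [hL] at h1
          exact congrArg Subtype.val h1))
          (by rw [Nat.card_zpowers, Subgroup.orderOf_coe, hc, hL])
      rcases S0016.result p Q.isPGroup' (fun L L' hL hL' => (key L hL).trans (key L' hL').symm) with hcyc | ⟨e, -⟩
      · obtain ⟨N, -, hNcard, hNmem⟩ := exists_normal_complement hmin' Q hcyc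
        refine hKfalse N (hNmem _ (ha₀o ▸ (Nat.coprime_primes hs H.prime).2 hsp)) (hNmem _ ?_) fun r hr hd => ?_
        · obtain ⟨l, hl⟩ := htx
          rw [hl]; exact Nat.Coprime.pow_left _ ((Nat.coprime_primes ht H.prime).2 htp)
        · refine hprime r hr (hd.trans (Subgroup.card_subgroup_dvd_card N)) fun e => Q.not_dvd_index ?_
          rw [← hNcard]; exact e ▸ hd
      · exact hp2 e
    · refine hKfalse ⊤ (Subgroup.mem_top _) (Subgroup.mem_top _) fun r hr hd => ?_
      rw [Subgroup.card_top] at hd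
      rcases eq_or_ne r p with rfl | hrp
      · push Not at hpW
        exact hpW hd
      · exact hprime r hr hd hrp

end Hyp

end Cfsg.Agent.Transfer.TwoRegular
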