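import Mathlib
import Cfsg.Agent.Lib.Transfer.TwoRegular.TwoPrimes
import Cfsg.Agent.Lib.Transfer.Kazarin
import Cfsg.Agent.Lib.Grp.Baer
import Cfsg.Agent.Lib.Grp.TwoClassCore

/-!
The structure of groups with two class sizes of `p`-regular elements.
-/

set_option autoImplicit false
set_option maxHeartbeats 1000000

open scoped Pointwise

universe u

namespace Cfsg.Agent.Transfer.TwoRegular

open Cfsg Cfsg.Agent Cfsg.Agent.Transfer.ClassDisconnected Subgroup

variable {G : Type u} [Group G] [Finite G]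

namespace Hyp

variable {p n : ℕ} (H : Hyp G p n) (hM : ∀ q : ℕ, ∃ s, s ≠ q ∧ Sig G p s)

include H hM in
/-- A single prime `s ≠ p` dividing `n` gives a contradiction. -/
theorem false_of_one {s : ℕ} [Fact s.Prime] (hsp : s ≠ p) (hsn : s ∣ n)
    (honly : ∀ r : ℕ, r.Prime → r ∣ n → r ≠ p → r = s) : False := by
  haveI : Fact p.Prime := ⟨H.prime⟩
  have hs : s.Prime := Fact.out
  obtain ⟨S, v, hvS, hv, ⟨k, hvo⟩, -, hS⟩ := H.exists_special hM hsp hsn
  have hvp := H.preg_primary hs hsp hvo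
  obtain ⟨t, hts, hSigt⟩ := hM s
  have ht : t.Prime := hSigt.1
  have htp : t ≠ p := hSigt.2.1
  haveI : Fact t.Prime := ⟨ht⟩
  have htn : ¬ t ∣ n := fun hd => hts (honly t ht hd htp)
  obtain ⟨u, hu, huc, j, huo⟩ := H.exists_mem hvp hv hSigt
  have hup := H.preg_primary ht htp huo
  have hCu := H.cen_eq_of_mem hM hvp hv hup huc hu
  obtain ⟨g, hgS, hgC⟩ : ∃ g ∈ (S : Subgroup G), g ∉ cen v := by
    by_contra hno
    push Not at hno
    exact S.not_dvd_index ((hsn.trans (H.index_eq hvp hv).symm.dvd).trans (Subgroup.index_dvd_of_le hno))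
  have hSX : ∀ a ∈ (S : Subgroup G), a ∈ nor v := fun a ha => H.mem_normalizer hM hvp hv hvp hv (self_mem_cen v) (by
    rw [show a * v * a⁻¹ = (a * v * a⁻¹ * v⁻¹) * v by group]
    exact mul_mem (Subgroup.center_le_centralizer _ (hS a ha)) (self_mem_cen v))
  set Γ := G ⧸ Subgroup.center G
  haveI : (Cfsg.pCore p Γ).Normal := Grp.pCore_isNormal
  set Q := Γ ⧸ Cfsg.pCore p Γ
  set f : G →* Q := (QuotientGroup.mk' (Cfsg.pCore p Γ)).comp (QuotientGroup.mk' (Subgroup.center G)) with hf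
  have hfs : Function.Surjective f :=
    (QuotientGroup.mk'_surjective _).comp (QuotientGroup.mk'_surjective _)
  have hcore : Cfsg.pCore p Q = ⊥ := Grp.TwoClassCore.pCore_quotient_eq_bot _ Grp.pCore_isPGroup rfl
  have hfc : ∀ c ∈ Subgroup.center G, f c = 1 := fun c hc => by
    show QuotientGroup.mk' (Cfsg.pCore p Γ) (QuotientGroup.mk' _ c) = 1
    rw [show QuotientGroup.mk' (Subgroup.center G) c = 1 from (QuotientGroup.eq_one_iff c).2 hc, map_one]
  -- `p'`-elements of the kernel are central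
  have hker : ∀ a : G, f a = 1 → (orderOf a).Coprime p → a ∈ Subgroup.center G := by
    intro a ha hap
    have h1 : (a : Γ) ∈ Cfsg.pCore p Γ := (QuotientGroup.eq_one_iff _).1 ha
    obtain ⟨i, hi⟩ := (IsPGroup.iff_orderOf.1 (Grp.pCore_isPGroup (p := p) (G := Γ))) ⟨_, h1⟩
    rw [Subgroup.orderOf_mk] at hi
    rw [← QuotientGroup.eq_one_iff, ← orderOf_eq_one_iff]
    exact Nat.eq_one_of_dvd_coprimes (hap.pow_right i) (orderOf_map_dvd (QuotientGroup.mk' _) a) hi.dvd
  -- the class of the image of `v` has `p`-power size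
  set T := cen v ⊔ (S : Subgroup G) with hT
  have hTle : T.map f ≤ Subgroup.centralizer ({f v} : Set Q) := by
    rw [hT, Subgroup.map_sup]
    refine sup_le ?_ ?_
    · rintro _ ⟨a, ha, rfl⟩
      rw [Subgroup.mem_centralizer_singleton_iff, ← map_mul, mem_cen.1 ha, map_mul]
    · rintro _ ⟨a, ha, rfl⟩
      rw [Subgroup.mem_centralizer_singleton_iff, ← map_mul, ← map_mul,
        show a * v = (a * v * a⁻¹ * v⁻¹) * (v * a) by group, map_mul, hfc _ (hS a ha), one_mul]
  have hdvd : (Subgroup.centralizer ({f v} : Set Q)).index ∣ n := by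
    refine (Subgroup.index_dvd_of_le hTle).trans ((Subgroup.index_map_dvd T hfs).trans ?_)
    rw [← H.index_eq hvp hv]
    exact Subgroup.index_dvd_of_le le_sup_left
  have hns : ¬ s ∣ (Subgroup.centralizer ({f v} : Set Q)).index := fun hd => S.not_dvd_index
    ((hd.trans ((Subgroup.index_dvd_of_le hTle).trans (Subgroup.index_map_dvd T hfs))).trans
      (Subgroup.index_dvd_of_le le_sup_right))
  have hppow := Nat.eq_prime_pow_of_unique_prime_dvd
    (Subgroup.index_ne_zero_of_finite (H := Subgroup.centralizer ({f v} : Set Q))) (p := p) (fun {r} hr hd => by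
      by_contra hrp
      exact hns (honly r hr (hd.trans hdvd) hrp ▸ hd))
  have hfit := Kazarin.mem_fitting hcore hppow
  have hvL : f v ∈ Cfsg.pCore s Q := Grp.mem_pCore_of_mem_fitting hfit (by
    obtain ⟨i, -, hi⟩ := (Nat.dvd_prime_pow hs).1 (hvo ▸ orderOf_map_dvd f v)
    exact IsPGroup.of_card (n := i) (by rw [Nat.card_zpowers, hi]))
  haveI : (Cfsg.pCore s Q).Normal := Grp.pCore_isNormal
  set M := (Cfsg.pCore s Q).comap f with hM'
  haveI : M.Normal := inferInstanceAs ((Cfsg.pCore s Q).comap f).Normal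
  obtain ⟨L, hL⟩ := ((S.isPGroup'.to_le (inf_le_left : (S : Subgroup G) ⊓ M ≤ _)).comap_subtype
    (K := M)).exists_le_sylow
  set L' := (L : Subgroup M).map M.subtype with hL'
  have hLS : L' ≤ (S : Subgroup G) ⊓ M := by
    have h1 : (L : Subgroup M) = ((S : Subgroup G) ⊓ M).subgroupOf M := by
      refine (Subgroup.eq_of_le_of_card_ge hL (Nat.le_of_dvd Nat.card_pos ?_)).symm
      have h2 := Grp.sylow_inf_normal_relIndex S M
      obtain ⟨e, he⟩ := IsPGroup.iff_card.1 L.isPGroup'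
      have h3 := Subgroup.card_subgroup_dvd_card (L : Subgroup M)
      rw [← Subgroup.card_mul_index (((S : Subgroup G) ⊓ M).subgroupOf M),
        show (((S : Subgroup G) ⊓ M).subgroupOf M).index = (S : Subgroup G).relIndex M from
          Subgroup.inf_relIndex_right _ _] at h3
      rw [he] at h3 ⊢
      exact ((hs.coprime_iff_not_dvd.2 h2).pow_left e).dvd_of_dvd_mul_right h3
    rw [hL', h1, Subgroup.subgroupOf_map_subtype]
    exact inf_le_left
  have hvL' : v ∈ L' := ⟨⟨v, hvL⟩, hL (show v ∈ (S : Subgroup G) ⊓ M from ⟨hvS, hvL⟩), rfl⟩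
  -- `L'` lies in the centralizer
  have hLC : ∀ a ∈ L', a ∈ cen v := by
    intro a ha
    obtain ⟨haS, haM⟩ := hLS ha
    have haX := hSX a haS
    obtain ⟨e, he⟩ := (IsPGroup.iff_orderOf.1 S.isPGroup') ⟨a, haS⟩
    rw [Subgroup.orderOf_mk] at he
    set d := a * u * a⁻¹ * u⁻¹ with hd
    have hauC : a * u * a⁻¹ ∈ cen v := (Subgroup.mem_normalizer_iff.1 haX u).1 hu
    have hdo : orderOf d ∣ t ^ j := by
      have hc : Commute (a * u * a⁻¹) u⁻¹ := (show Commute (a * u * a⁻¹) u from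
        H.central_in hM hvp hv hup hu hauC).inv_right
      refine orderOf_dvd_of_pow_eq_one ?_
      rw [hd, hc.mul_pow, conj_pow, inv_pow, ← huo, pow_orderOf_eq_one]; simp
    have hdM : d ∈ M := by
      rw [hd, mul_assoc a u a⁻¹, mul_assoc a, show a * ((u * a⁻¹) * u⁻¹) = a * (u * a⁻¹ * u⁻¹) from rfl]
      exact M.mul_mem haM (Subgroup.Normal.conj_mem inferInstance _ (M.inv_mem haM) u)
    have hfd : f d = 1 := by
      obtain ⟨i, hi⟩ := (IsPGroup.iff_orderOf.1 (Grp.pCore_isPGroup (p := s) (G := Q))) ⟨f d, (hdM : f d ∈ Cfsg.pCore s Q)⟩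
      rw [← Subgroup.orderOf_coe] at hi
      rw [← orderOf_eq_one_iff]
      exact Nat.eq_one_of_dvd_coprimes (Nat.Coprime.pow j i ((Nat.coprime_primes ht hs).2 hts))
        ((orderOf_map_dvd f d).trans hdo) hi.dvd
    exact H.free hM hvp hv hup huc hu (hker d hfd (Nat.Coprime.coprime_dvd_left hdo
        (Nat.Coprime.pow_left _ ((Nat.coprime_primes ht H.prime).2 htp))))
      (k := s ^ e) (by rw [← he, pow_orderOf_eq_one]; exact one_mem _)
      (huo ▸ Nat.Coprime.pow e j ((Nat.coprime_primes hs ht).2 hts.symm))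
  -- Frattini argument
  have htop : nor v ⊔ f.ker = ⊤ := by
    rw [← top_le_iff, ← Sylow.normalizer_sup_eq_top L]
    refine sup_le (fun a ha => Subgroup.mem_sup_left ?_) fun a ha => ?_
    · exact H.mem_normalizer hM hvp hv hvp hv (self_mem_cen v)
        (hLC _ ((Subgroup.mem_normalizer_iff.1 ha v).1 hvL'))
    · have hsurj : (L : Subgroup M).map (f.subgroupComap (Cfsg.pCore s Q)) = ⊤ := by
        have h1 := (Sylow.mapSurjective (f.subgroupComap_surjective_of_surjective _ hfs) L)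
        have h2 := Sylow.coe_mapSurjective (f.subgroupComap_surjective_of_surjective (Cfsg.pCore s Q) hfs) L
        rw [← h2]
        exact ((IsPGroup.iff_card.1 (Grp.pCore_isPGroup (p := s) (G := Q))) |>.elim fun e he =>
          Subgroup.eq_top_of_le_card _ (Nat.le_of_dvd Nat.card_pos (by
            rw [Sylow.card_eq_multiplicity, he, hs.factorization_pow, Finsupp.single_eq_same])))
      have h3 : (f.subgroupComap (Cfsg.pCore s Q)) ⟨a, ha⟩ ∈ (L : Subgroup M).map (f.subgroupComap (Cfsg.pCore s Q)) :=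
        hsurj ▸ Subgroup.mem_top _
      obtain ⟨l, hl, hla⟩ := h3
      have hla' : f (l : G) = f a := congrArg Subtype.val hla
      rw [show a = (l : G) * ((l : G)⁻¹ * a) by group]
      refine mul_mem (Subgroup.mem_sup_left (hSX _ (hLS ⟨l, hl, rfl⟩).1)) (Subgroup.mem_sup_right ?_)
      rw [MonoidHom.mem_ker, map_mul, map_inv, hla', inv_mul_cancel]
  -- conjugate of `v` whose centralizer contains `g`
  obtain ⟨e, heg⟩ := (IsPGroup.iff_orderOf.1 S.isPGroup') ⟨g, hgS⟩
  rw [Subgroup.orderOf_mk] at heg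
  have hgp := H.preg_primary hs hsp heg
  have hgc : g ∉ Subgroup.center G := fun h => hgC (Subgroup.center_le_centralizer _ h)
  obtain ⟨P₁, hP₁⟩ := exists_sylow_le_centralizer (r := t) (u := v)
    (fun hd => htn ((H.index_eq hvp hv) ▸ hd))
  obtain ⟨P₂, hP₂⟩ := exists_sylow_le_centralizer (r := t) (u := g)
    (fun hd => htn ((H.index_eq hgp hgc) ▸ hd))
  obtain ⟨x, hx⟩ := MulAction.exists_smul_eq G P₁ P₂
  obtain ⟨w, hw, hwc⟩ : ∃ w ∈ (P₁ : Subgroup G), w ∉ Subgroup.center G := by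
    obtain ⟨P₃, hP₃⟩ := (IsPGroup.of_card (n := j) (by rw [Nat.card_zpowers, huo]) :
      IsPGroup t (Subgroup.zpowers u)).exists_le_sylow
    obtain ⟨y, hy⟩ := MulAction.exists_smul_eq G P₃ P₁
    refine ⟨y * u * y⁻¹, ?_, fun h => huc ((conj_center_iff y u).1 h)⟩
    rw [← hy]
    exact Subgroup.smul_mem_pointwise_smul u (MulAut.conj y) _ (hP₃ (Subgroup.mem_zpowers u))
  obtain ⟨i, hi⟩ := (IsPGroup.iff_orderOf.1 P₁.isPGroup') ⟨w, hw⟩
  rw [Subgroup.orderOf_mk] at hi
  have hwp := H.preg_primary ht htp hi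
  have hCw := H.cen_eq_of_mem hM hvp hv hwp hwc (hP₁ hw)
  have hxw : x * w * x⁻¹ ∈ cen g := hP₂ (by
    rw [← hx]; exact Subgroup.smul_mem_pointwise_smul w (MulAut.conj x) _ hw)
  have ha : x⁻¹ * g * x ∈ cen v := by
    rw [← hCw]
    refine (cen_conj_iff x w _).1 ?_
    rw [show x * (x⁻¹ * g * x) * x⁻¹ = g by group]
    exact cen_mem_comm hxw
  obtain ⟨y, hy, z, hz, hyz⟩ := Subgroup.mem_sup_of_normal_right.1 (htop ▸ Subgroup.mem_top x : x ∈ nor v ⊔ f.ker)
  set b := y * (x⁻¹ * g * x) * y⁻¹ with hb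
  have hbC : b ∈ cen v := (Subgroup.mem_normalizer_iff.1 hy _).1 ha
  have hfg : f g = f b := by
    have hz1 : f z = 1 := hz
    rw [hb, ← hyz]
    simp only [map_mul, map_inv, hz1, mul_one, one_mul, inv_one, mul_inv_rev]
    group
  have hfd : f (g * u * g⁻¹ * u⁻¹) = 1 := by
    simp only [map_mul, map_inv, hfg]
    simp only [← map_mul, ← map_inv]
    rw [H.central_in hM hvp hv hup hu hbC]
    simp
  have hdo : orderOf (g * u * g⁻¹ * u⁻¹) ∣ t ^ j := by
    have hc : Commute (g * u * g⁻¹) u⁻¹ := (show Commute (g * u * g⁻¹) u from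
      H.central_in hM hvp hv hup hu ((Subgroup.mem_normalizer_iff.1 (hSX g hgS) u).1 hu)).inv_right
    refine orderOf_dvd_of_pow_eq_one ?_
    rw [hc.mul_pow, conj_pow, inv_pow, ← huo, pow_orderOf_eq_one]; simp
  exact hgC (H.free hM hvp hv hup huc hu (hker _ hfd (Nat.Coprime.coprime_dvd_left hdo
      (Nat.Coprime.pow_left _ ((Nat.coprime_primes ht H.prime).2 htp))))
    (k := s ^ e) (by rw [← heg, pow_orderOf_eq_one]; exact one_mem _)
    (huo ▸ Nat.Coprime.pow e j ((Nat.coprime_primes hs ht).2 hts.symm)))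

include H hM in
/-- With at least two primes, the class size is a power of `p`. -/
theorem eq_p_of_dvd {r : ℕ} (hr : r.Prime) (hrn : r ∣ n) : r = p := by
  classical
  by_contra hrp
  have hex : ∃ s : ℕ, s.Prime ∧ s ∣ n ∧ s ≠ p := ⟨r, hr, hrn, hrp⟩
  obtain ⟨hs, hsn, hsp⟩ := Nat.find_spec hex
  haveI : Fact (Nat.find hex).Prime := ⟨hs⟩
  by_cases h : ∀ t : ℕ, t.Prime → t ∣ n → t ≠ p → t = Nat.find hex
  · exact H.false_of_one hM hsp hsn h
  push Not at h
  obtain ⟨t, ht, htn, htp, hts⟩ := h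
  haveI : Fact t.Prime := ⟨ht⟩
  exact H.false_of_two hM hsp htp hts hsn htn fun l hl hln hlp => Nat.find_le ⟨hl, hln, hlp⟩

include H hM in
/-- With at least two primes there is an abelian `p`-complement. -/
theorem exists_abelian_complement {x : G} (hxp : (orderOf x).Coprime p) (hx : x ∉ Subgroup.center G) :
    ∃ A : Subgroup G, IsMulCommutative A ∧ ¬ p ∣ Nat.card A ∧ ∃ k : ℕ, A.index = p ^ k := by
  haveI : Fact p.Prime := ⟨H.prime⟩
  refine ⟨H.part hM hxp hx, ⟨⟨fun a b => Subtype.ext (H.central_in hM hxp hx b.2.2 b.2.1 a.2.1)⟩⟩, fun hd => ?_,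
    (H.part hM hxp hx).index.primeFactorsList.length, ?_⟩
  · obtain ⟨a, ha⟩ := exists_prime_orderOf_dvd_card' (G := H.part hM hxp hx) p hd
    have h1 := a.2.2
    rw [Subgroup.orderOf_coe, ha] at h1
    exact H.prime.ne_one ((Nat.coprime_self p).1 h1)
  · refine Nat.eq_prime_pow_of_unique_prime_dvd Subgroup.index_ne_zero_of_finite fun {r} hr hd => ?_
    by_contra hrp
    haveI : Fact r.Prime := ⟨hr⟩
    obtain ⟨P, hP⟩ := exists_sylow_le_centralizer (r := r) (u := x) fun hd' =>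
      hrp (H.eq_p_of_dvd hM hr (H.index_eq hxp hx ▸ hd'))
    refine P.not_dvd_index (hd.trans (Subgroup.index_dvd_of_le fun a ha => ⟨hP ha, ?_⟩))
    obtain ⟨i, hi⟩ := (IsPGroup.iff_orderOf.1 P.isPGroup') ⟨a, ha⟩
    rw [Subgroup.orderOf_mk] at hi
    exact H.preg_primary hr hrp hi

end Hyp

/-- A normal Hall subgroup contains every element of order prime to its index. -/
theorem mem_of_coprime_index (N : Subgroup G) [N.Normal] {x : G} (h : (orderOf x).Coprime N.index) : x ∈ N := by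
  rw [← QuotientGroup.eq_one_iff, ← orderOf_eq_one_iff]
  refine Nat.eq_one_of_dvd_coprimes h (orderOf_map_dvd (QuotientGroup.mk' N) x) ?_
  rw [Subgroup.index_eq_card]
  exact orderOf_dvd_natCard _

/-- If only `p`- and `q`-elements can be noncentral, `G` is the product of `PQ` and a central subgroup. -/
theorem exists_decomposition {p q : ℕ} [hp : Fact p.Prime] [hq : Fact q.Prime] (hqp : q ≠ p)
    (h : ∀ r : ℕ, r ≠ p → r ≠ q → ¬ Sig G p r) :
    ∃ (P : Sylow p G) (Q : Sylow q G) (A : Subgroup G), A ≤ Subgroup.center G ∧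
        Nat.card ↥((P : Subgroup G) ⊔ (Q : Subgroup G)) = Nat.card P * Nat.card Q ∧
        ((P : Subgroup G) ⊔ (Q : Subgroup G)).Normal ∧
        ((P : Subgroup G) ⊔ (Q : Subgroup G)) ⊓ A = ⊥ ∧ ((P : Subgroup G) ⊔ (Q : Subgroup G)) ⊔ A = ⊤ := by
  obtain ⟨P⟩ : Nonempty (Sylow p G) := inferInstance
  obtain ⟨Q⟩ : Nonempty (Sylow q G) := inferInstance
  let A : Subgroup G :=
    { carrier := {a | a ∈ Subgroup.center G ∧ (orderOf a).Coprime (p * q)}
      one_mem' := ⟨one_mem _, by rw [orderOf_one]; exact Nat.coprime_one_left _⟩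
      mul_mem' := fun {a b} ha hb => ⟨mul_mem ha.1 hb.1, Nat.Coprime.coprime_dvd_left
        (Commute.orderOf_mul_dvd_mul_orderOf (Subgroup.mem_center_iff.1 hb.1 a)) (ha.2.mul_left hb.2)⟩
      inv_mem' := fun {a} ha => ⟨inv_mem ha.1, by rw [orderOf_inv]; exact ha.2⟩ }
  have hAc : A ≤ Subgroup.center G := fun a ha => ha.1
  haveI hAn : A.Normal := ⟨fun a ha g => by
    rw [Subgroup.mem_center_iff.1 ha.1 g, mul_inv_cancel_right]; exact ha⟩
  have hAcard : ∀ r : ℕ, r.Prime → r ∣ Nat.card A → r ≠ p ∧ r ≠ q := by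
    intro r hr hd
    haveI : Fact r.Prime := ⟨hr⟩
    obtain ⟨a, ha⟩ := exists_prime_orderOf_dvd_card' (G := A) r hd
    have h1 := a.2.2
    rw [Subgroup.orderOf_coe, ha] at h1
    exact ⟨fun e => hr.ne_one (Nat.eq_one_of_dvd_coprimes h1 dvd_rfl (e ▸ dvd_mul_right r q)),
      fun e => hr.ne_one (Nat.eq_one_of_dvd_coprimes h1 dvd_rfl (e ▸ dvd_mul_left r p))⟩
  have hfull : ∀ r : ℕ, r.Prime → r ≠ p → r ≠ q → ¬ r ∣ A.index := by
    intro r hr hrp hrq hd
    haveI : Fact r.Prime := ⟨hr⟩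
    obtain ⟨R⟩ : Nonempty (Sylow r G) := inferInstance
    refine R.not_dvd_index (hd.trans (Subgroup.index_dvd_of_le fun a ha => ?_))
    obtain ⟨i, hi⟩ := (IsPGroup.iff_orderOf.1 R.isPGroup') ⟨a, ha⟩
    rw [Subgroup.orderOf_mk] at hi
    refine ⟨by_contra fun hc => h r hrp hrq ⟨hr, hrp, a, hc, i, hi⟩, ?_⟩
    rw [hi]
    exact Nat.Coprime.pow_left _ (((Nat.coprime_primes hr hp.out).2 hrp).mul_right
      ((Nat.coprime_primes hr hq.out).2 hrq))
  have hcop : (Nat.card A).Coprime A.index := Nat.coprime_of_dvd fun r hr h1 h2 =>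
    hfull r hr (hAcard r hr h1).1 (hAcard r hr h1).2 h2
  obtain ⟨K, hK⟩ := Subgroup.exists_right_complement'_of_coprime hcop
  have hKn : K.Normal := ⟨fun k hk g => by
    obtain ⟨⟨a, b⟩, hab⟩ := hK.2 g
    simp only at hab
    have hcen : ∀ y : G, y * (a : G) = (a : G) * y := fun y => Subgroup.mem_center_iff.1 (hAc a.2) y
    rw [← hab, show (a : G) * b * k * ((a : G) * b)⁻¹ = (a : G) * ((b : G) * k * (b : G)⁻¹) * (a : G)⁻¹ by group,
      ← hcen, mul_inv_cancel_right]
    exact K.mul_mem (K.mul_mem b.2 hk) (K.inv_mem b.2)⟩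
  have hKi : K.index = Nat.card A := hK.index_eq_card
  have hKc : Nat.card K = A.index := hK.symm.index_eq_card.symm
  have hin : ∀ (r : ℕ) [Fact r.Prime], (r = p ∨ r = q) → ∀ R : Sylow r G, (R : Subgroup G) ≤ K := by
    intro r _ hr R a ha
    obtain ⟨i, hi⟩ := (IsPGroup.iff_orderOf.1 R.isPGroup') ⟨a, ha⟩
    rw [Subgroup.orderOf_mk] at hi
    refine mem_of_coprime_index K ?_
    rw [hKi, hi]
    refine Nat.Coprime.pow_left _ ((Fact.out : r.Prime).coprime_iff_not_dvd.2 fun hd => ?_)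
    have := hAcard r Fact.out hd
    rcases hr with rfl | rfl
    · exact this.1 rfl
    · exact this.2 rfl
  have hle : (P : Subgroup G) ⊔ (Q : Subgroup G) ≤ K := sup_le (hin p (Or.inl rfl) P) (hin q (Or.inr rfl) Q)
  set U := (P : Subgroup G) ⊔ (Q : Subgroup G) with hU
  have hco : (Nat.card P).Coprime (Nat.card Q) := by
    obtain ⟨a, ha⟩ := IsPGroup.iff_card.1 P.isPGroup'
    obtain ⟨b, hb⟩ := IsPGroup.iff_card.1 Q.isPGroup'
    show (Nat.card (P : Subgroup G)).Coprime (Nat.card (Q : Subgroup G))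
    rw [ha, hb]
    exact Nat.Coprime.pow _ _ ((Nat.coprime_primes hp.out hq.out).2 hqp.symm)
  have hdU : Nat.card P * Nat.card Q ∣ Nat.card U := hco.mul_dvd_of_dvd_of_dvd
    (Subgroup.card_dvd_of_le le_sup_left) (Subgroup.card_dvd_of_le le_sup_right)
  have hKd : Nat.card K ∣ Nat.card P * Nat.card Q := by
    rw [← Nat.factorization_le_iff_dvd Nat.card_pos.ne' (Nat.mul_pos Nat.card_pos Nat.card_pos).ne']
    intro r
    by_cases hr : r.Prime
    swap
    · simp [Nat.factorization_eq_zero_of_not_prime _ hr]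
    haveI : Fact r.Prime := ⟨hr⟩
    rw [Nat.factorization_mul Nat.card_pos.ne' Nat.card_pos.ne', Finsupp.add_apply]
    have hKG := (Nat.factorization_le_iff_dvd Nat.card_pos.ne' Nat.card_pos.ne').2
      (Subgroup.card_subgroup_dvd_card K) r
    rcases eq_or_ne r p with rfl | hrp
    · refine le_add_right (hKG.trans ?_)
      rw [P.card_eq_multiplicity, hp.out.factorization_pow, Finsupp.single_eq_same]
    rcases eq_or_ne r q with rfl | hrq
    · refine le_add_left (hKG.trans ?_)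
      rw [Q.card_eq_multiplicity, hq.out.factorization_pow, Finsupp.single_eq_same]
    rw [Nat.factorization_eq_zero_of_not_dvd (hKc ▸ hfull r hr hrp hrq)]
    exact Nat.zero_le _
  have hKU : U = K := Subgroup.eq_of_le_of_card_ge hle
    (Nat.le_of_dvd Nat.card_pos (hKd.trans hdU))
  refine ⟨P, Q, A, hAc, Nat.dvd_antisymm ?_ hdU, ?_, ?_, ?_⟩
  · rw [show ((P : Subgroup G) ⊔ (Q : Subgroup G)) = K from hKU]; exact hKd
  · rw [show ((P : Subgroup G) ⊔ (Q : Subgroup G)) = K from hKU]; exact hKn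
  · rw [show ((P : Subgroup G) ⊔ (Q : Subgroup G)) = K from hKU, inf_comm]
    exact hK.disjoint.eq_bot
  · rw [show ((P : Subgroup G) ⊔ (Q : Subgroup G)) = K from hKU, sup_comm]
    exact hK.sup_eq_top

/-- The structure theorem. -/
theorem Hyp.structure {p n : ℕ} (H : Hyp G p n) {x : G} (hxp : (orderOf x).Coprime p)
    (hx : x ∉ Subgroup.center G) :
    (∃ A : Subgroup G, IsMulCommutative A ∧ ¬ p ∣ Nat.card A ∧ ∃ k : ℕ, A.index = p ^ k) ∨
    (∃ (q : ℕ) (_ : Fact q.Prime) (P : Sylow p G) (Q : Sylow q G) (A : Subgroup G), q ≠ p ∧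
        A ≤ Subgroup.center G ∧ Nat.card ↥((P : Subgroup G) ⊔ (Q : Subgroup G)) = Nat.card P * Nat.card Q ∧
        ((P : Subgroup G) ⊔ (Q : Subgroup G)).Normal ∧
        ((P : Subgroup G) ⊔ (Q : Subgroup G)) ⊓ A = ⊥ ∧ ((P : Subgroup G) ⊔ (Q : Subgroup G)) ⊔ A = ⊤) := by
  by_cases hM : ∀ q : ℕ, ∃ s, s ≠ q ∧ Sig G p s
  · exact Or.inl (H.exists_abelian_complement hM hxp hx)
  push Not at hM
  obtain ⟨q, hq⟩ := hM
  obtain ⟨i, r, k, hr, hxo, hxc⟩ := exists_primary_noncentral hx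
  have hrp : r ≠ p := by
    intro e
    have hk : k ≠ 0 := fun h0 => hxc (by
      rw [h0, pow_zero, orderOf_eq_one_iff] at hxo; rw [hxo]; exact one_mem _)
    exact H.prime.one_lt.ne' (Nat.eq_one_of_dvd_coprimes hxp
      (by rw [← e]; exact (dvd_pow_self r hk).trans (hxo ▸ orderOf_pow_dvd i)) dvd_rfl)
  have hrq : r = q := by_contra fun hne => hq r hne ⟨hr, hrp, _, hxc, k, hxo⟩
  subst hrq
  haveI : Fact p.Prime := ⟨H.prime⟩
  haveI : Fact r.Prime := ⟨hr⟩
  obtain ⟨P, Q, A, h1, h2, h3, h4, h5⟩ := exists_decomposition (G := G) hrp fun l _ hlr => hq l hlr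
  exact Or.inr ⟨r, inferInstance, P, Q, A, hrp, h1, h2, h3, h4, h5⟩

end Cfsg.Agent.Transfer.TwoRegular
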